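import Mathlib
import Cfsg.Prelude.Def_Local
import Cfsg.Agent.Lib.Helper2.Comp16

set_option autoImplicit false
set_option linter.unusedSectionVars false
set_option linter.style.haveILetI false

/-! local subgroups of `p`-constrained groups are `p`-constrained -/

namespace Cfsg.Agent.Lib.Helper2.Comp

open Cfsg
open scoped commutatorElement

section
variable {X : Type*} [Group X] [Finite X] (p : ℕ) [Fact p.Prime]

/-- the `p`-layer of `H` is trivial for `H` between `C_X(P)` and `N_X(P)` in a `p`-constrained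
group -/
theorem pLayer_eq_bot_of_local (hX : pLayer p X = ⊥) {P H : Subgroup X} (hP : IsPGroup p P)
    (hHN : H ≤ Subgroup.normalizer (P : Set X)) (hCH : Subgroup.centralizer (P : Set X) ≤ H)
    (hPH : P ≤ H ∨ H ≤ Subgroup.centralizer (P : Set X)) :
    pLayer p H = ⊥ := by
  rw [eq_bot_iff]
  apply sSup_le
  intro K hK
  exfalso
  have hpp : p.Prime := Fact.out
  have hOH := map_pPrimeCore_le_of_local p hX hP hHN hCH hPH
  have hKc : IsComponent (K.map (QuotientGroup.mk' (pPrimeCore p H))) := hK.2.1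
  have hOc := Cfsg.Agent.Lib.Lead.pPrimeCore_coprime (G := X) p
  have key : ∀ A : Subgroup H, A.Normal → (∀ x ∈ A, ∃ k : ℕ, x ^ (p ^ k) ∈ pPrimeCore p H) →
      ⁅K, A⁆ ≤ pPrimeCore p H := by
    intro A hA hAp
    have hAn : (A.map (QuotientGroup.mk' (pPrimeCore p H))).Normal :=
      Subgroup.Normal.map hA _ (QuotientGroup.mk'_surjective _)
    have hApg : IsPGroup p (A.map (QuotientGroup.mk' (pPrimeCore p H))) := by
      rintro ⟨_, ⟨x, hx, rfl⟩⟩
      obtain ⟨k, hk⟩ := hAp x hx
      refine ⟨k, Subtype.ext ?_⟩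
      rw [Subgroup.coe_pow, Subgroup.coe_one, ← map_pow]
      exact mk_eq_one_of_mem p hk
    have h1 := solvable_subnormal_le_centralizer hKc hAn.isSubnormal (isSolvable_of_isPGroup p hApg)
    rw [← map_mk_eq_bot_iff, Subgroup.map_commutator,
      Subgroup.commutator_eq_bot_iff_le_centralizer]
    exact Subgroup.le_centralizer_iff.mp h1
  obtain ⟨K₀, hK₀⟩ : ∃ K₀, K₀ = K.map H.subtype := ⟨_, rfl⟩
  have hK₀H : K₀ ≤ H := by rw [hK₀]; exact Subgroup.map_subtype_le _
  have hmemO : ∀ x : H, x ∈ pPrimeCore p H → (x : X) ∈ pPrimeCore p X :=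
    fun x hx => hOH ⟨x, hx, rfl⟩
  have hordO : ∀ x ∈ pPrimeCore p X, (orderOf x).Coprime p := by
    intro x hx
    have h1 : orderOf x ∣ Nat.card (pPrimeCore p X) := by
      have := orderOf_dvd_natCard (⟨x, hx⟩ : pPrimeCore p X)
      rwa [Subgroup.orderOf_mk] at this
    exact Nat.Coprime.coprime_dvd_left h1 hOc
  -- `K₀` centralizes `P`
  have hK₀P : K₀ ≤ Subgroup.centralizer (P : Set X) := by
    rcases hPH with h | h
    · have hAn : (P.subgroupOf H).Normal :=
        (Subgroup.normal_subgroupOf_iff_le_normalizer h).mpr hHN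
      have h1 := key (P.subgroupOf H) hAn (by
        intro x hx
        obtain ⟨k, hk⟩ := hP ⟨(x : X), hx⟩
        refine ⟨k, ?_⟩
        have h0 : x ^ (p ^ k) = 1 := by
          apply Subtype.ext
          have := congrArg Subtype.val hk
          simpa using this
        rw [h0]; exact one_mem _)
      have h2 : ⁅K, P.subgroupOf H⁆ ≤ P.subgroupOf H := Subgroup.commutator_le_right K _
      have h3 : ⁅K, P.subgroupOf H⁆ = ⊥ := by
        rw [eq_bot_iff]
        intro x hx
        have hx1 : (x : X) ∈ pPrimeCore p X := hmemO x (h1 hx)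
        have hx2 : (x : X) ∈ P := h2 hx
        have h4 : (x : X) = 1 := eq_one_of_mem_pGroup_of_coprime p hP hx2 (hordO _ hx1)
        rw [Subgroup.mem_bot]; exact Subtype.ext h4
      rw [Subgroup.commutator_eq_bot_iff_le_centralizer] at h3
      rw [hK₀]
      rintro _ ⟨k, hk, rfl⟩
      rw [Subgroup.mem_centralizer_iff]
      intro a ha
      have h5 := Subgroup.mem_centralizer_iff.mp (h3 hk) ⟨a, h ha⟩ ha
      exact congrArg Subtype.val h5
    · exact hK₀H.trans h
  have hNn : ((pPrimePCore p X).subgroupOf H).Normal := (pPrimePCore_normal' p).comap _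
  have hOsub : (pPrimeCore p X).subgroupOf H ≤ pPrimeCore p H := by
    apply le_pPrimeCore ((Cfsg.Agent.Lib.Lead.pPrimeCore_normal p X).comap _)
    have e : (pPrimeCore p X).subgroupOf H = (pPrimeCore p X ⊓ H).subgroupOf H := by
      rw [Subgroup.inf_subgroupOf_right]
    show (Nat.card ((pPrimeCore p X).subgroupOf H)).Coprime p
    rw [e, Nat.card_congr (Subgroup.subgroupOfEquivOfLe inf_le_right).toEquiv]
    exact coprime_card_of_le inf_le_left hOc
  have hNp : ∀ x ∈ (pPrimePCore p X).subgroupOf H, ∃ k : ℕ, x ^ (p ^ k) ∈ pPrimeCore p H := by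
    intro x hx
    have hx' : QuotientGroup.mk' (pPrimeCore p X) (x : X) ∈ pCore p (X ⧸ pPrimeCore p X) := hx
    obtain ⟨k, hk⟩ := (pCore_quotient_isPGroup (X := X) p) ⟨_, hx'⟩
    refine ⟨k, hOsub ?_⟩
    rw [Subgroup.mem_subgroupOf, Subgroup.coe_pow]
    apply mem_of_mk_eq_one
    rw [map_pow]
    have := congrArg Subtype.val hk
    simpa using this
  have h4 := key _ hNn hNp
  have hstep : ∀ x ∈ K₀, (orderOf x).Coprime p → x ∈ pPrimeCore p X := by
    intro x hx hxo
    apply mem_of_mk_eq_one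
    apply eq_one_of_thompson_quotient p hX hP
      (Nat.Coprime.coprime_dvd_left (orderOf_map_dvd _ x) hxo)
    · rw [Subgroup.mem_centralizer_iff]
      rintro _ ⟨a, ha, rfl⟩
      rw [← map_mul, ← map_mul, Subgroup.mem_centralizer_iff.mp (hK₀P hx) a ha]
    · intro r hr
      obtain ⟨hrQ, hrC⟩ := Subgroup.mem_inf.mp hr
      obtain ⟨r0, rfl⟩ := QuotientGroup.mk'_surjective _ r
      obtain ⟨d, hd, hrd⟩ := exists_mul_mem_centralizer p hP hrC
      have hr'π : QuotientGroup.mk' (pPrimeCore p X) (r0 * d) =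
          QuotientGroup.mk' (pPrimeCore p X) r0 := by rw [map_mul, mk_eq_one_of_mem p hd, mul_one]
      have hr'H : r0 * d ∈ H := hCH hrd
      have hr'N : (⟨r0 * d, hr'H⟩ : H) ∈ (pPrimePCore p X).subgroupOf H := by
        show QuotientGroup.mk' (pPrimeCore p X) (r0 * d) ∈ pCore p _
        rw [hr'π]; exact hrQ
      rw [hK₀] at hx
      obtain ⟨k, hk, rfl⟩ := hx
      have hcomm : ⁅k, (⟨r0 * d, hr'H⟩ : H)⁆ ∈ pPrimeCore p H :=
        h4 (Subgroup.commutator_mem_commutator hk hr'N)
      have hcO := hmemO _ hcomm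
      have h5 : QuotientGroup.mk' (pPrimeCore p X)
          ((k : X) * (r0 * d) * (k : X)⁻¹ * (r0 * d)⁻¹) = 1 := by
        apply mk_eq_one_of_mem
        simpa [commutatorElement_def] using hcO
      rw [map_mul, map_mul, map_mul, map_inv, map_inv, hr'π] at h5
      have h6 := mul_inv_eq_one.mp h5
      have h7 := mul_inv_eq_iff_eq_mul.mp h6
      exact h7.symm
  -- `K₀ ≤ O_{p'}(X)`
  have hperf : ⁅K₀, K₀⁆ = K₀ := by
    rw [hK₀, ← Subgroup.map_commutator, pComponent_perfect p hK]
  have hle : K₀ ≤ K₀ ⊓ pPrimeCore p X := by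
    apply le_of_pgroup_quot_of_perfect p inf_le_left
      (le_normalizer_inf Subgroup.le_normalizer (pPrimeCore_le_normalizer p K₀))
    · intro x hx
      obtain ⟨k, hk⟩ := exists_pow_coprime p x
      exact ⟨k, K₀.pow_mem hx _, hstep _ (K₀.pow_mem hx _) hk⟩
    · rw [hperf]; exact le_sup_left
  have hc : (Nat.card K₀).Coprime p := coprime_card_of_le (hle.trans inf_le_right) hOc
  have hcard : Nat.card K₀ = Nat.card K := by
    rw [hK₀]
    exact (Nat.card_congr (K.equivMapOfInjective H.subtype H.subtype_injective).toEquiv).symm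
  rw [hcard] at hc
  exact (Nat.Prime.coprime_iff_not_dvd hpp).mp hc.symm (p_dvd_card_pComponent p hK)

end

end Cfsg.Agent.Lib.Helper2.Comp

namespace Cfsg.Agent.Lib.Helper2.Comp

open Cfsg

theorem layer_eq_bot_of_equiv {Y Z : Type*} [Group Y] [Group Z] (e : Y ≃* Z)
    (h : layer Y = ⊥) : layer Z = ⊥ := by
  rw [eq_bot_iff]
  apply sSup_le
  intro K hK
  exfalso
  rcases map_component hK e.symm.toMonoidHom e.symm.surjective with h1 | h1
  · exact ne_bot_of_isQuasisimple hK.2
      ((Subgroup.map_eq_bot_iff_of_injective K e.symm.injective).mp h1)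
  · have h2 := le_layer h1
    rw [h] at h2
    exact ne_bot_of_isQuasisimple h1.2 (le_bot_iff.mp h2)

/-- `X` is `p`-constrained iff `X / O_{p'}(X)` is -/
theorem isPConstrained_quotient_iff {X : Type*} [Group X] [Finite X] (p : ℕ) [Fact p.Prime] :
    IsPConstrained p X ↔ IsPConstrained p (X ⧸ pPrimeCore p X) := by
  rw [isPConstrained_iff_pLayer, isPConstrained_iff_pLayer, pLayer_eq_bot_iff, pLayer_eq_bot_iff]
  have hO := Cfsg.Agent.Lib.Lead.pPrimeCore_quotient (G := X) p
  have hinj : Function.Injective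
      (QuotientGroup.mk' (pPrimeCore p (X ⧸ pPrimeCore p X))) := by
    rw [← MonoidHom.ker_eq_bot_iff, QuotientGroup.ker_mk', hO]
  have e : (X ⧸ pPrimeCore p X) ≃* ((X ⧸ pPrimeCore p X) ⧸ pPrimeCore p (X ⧸ pPrimeCore p X)) :=
    MulEquiv.ofBijective (QuotientGroup.mk' (pPrimeCore p (X ⧸ pPrimeCore p X)))
      ⟨hinj, QuotientGroup.mk'_surjective _⟩
  exact ⟨layer_eq_bot_of_equiv e, layer_eq_bot_of_equiv e.symm⟩

end Cfsg.Agent.Lib.Helper2.Comp
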