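import Mathlib

/-!
Abelian Sylow subgroups: the transfer onto `P ∩ Z(N_G(P))`.
-/

set_option autoImplicit false

namespace Cfsg.Agent.Lib.Helper2.AbSylow

open scoped IsMulCommutative

variable {G : Type*} [Group G] [Finite G] {p : ℕ} [Fact p.Prime]

/-- the norm map of `N_G(P)/P` on an abelian Sylow subgroup -/
theorem exists_norm (P : Sylow p G) [IsMulCommutative (P : Subgroup G)] :
    ∃ (ν : ↥(P : Subgroup G) →* ↥(P : Subgroup G)) (m : ℕ), m.Coprime p ∧
      (∀ u, (ν u : G) ∈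
        Subgroup.centralizer (Subgroup.normalizer ((P : Subgroup G) : Set G) : Set G)) ∧
      (∀ u : ↥(P : Subgroup G), (u : G) ∈
        Subgroup.centralizer (Subgroup.normalizer ((P : Subgroup G) : Set G) : Set G) →
          ν u = u ^ m) := by
  classical
  obtain ⟨θ, hθ⟩ : ∃ θ : ↥(Subgroup.normalizer ((P : Subgroup G) : Set G)) →* MulAut ↥(P : Subgroup G),
      ∀ (n : ↥(Subgroup.normalizer ((P : Subgroup G) : Set G))) (u : ↥(P : Subgroup G)),
        ((θ n u : ↥(P : Subgroup G)) : G) = n * u * (n : G)⁻¹ :=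
    ⟨(P : Subgroup G).normalizerMonoidHom, fun n u => rfl⟩
  have hker : (P : Subgroup G).subgroupOf (Subgroup.normalizer ((P : Subgroup G) : Set G))
      ≤ θ.ker := by
    intro n hn
    rw [MonoidHom.mem_ker]
    ext u
    rw [hθ, MulAut.one_apply]
    have h1 := mul_comm (⟨n, Subgroup.mem_subgroupOf.mp hn⟩ : ↥(P : Subgroup G)) u
    have h2 : (n : G) * (u : G) = (u : G) * (n : G) := congrArg Subtype.val h1
    rw [h2, mul_inv_cancel_right]
  obtain ⟨θb, hθb⟩ : ∃ θb : (↥(Subgroup.normalizer ((P : Subgroup G) : Set G)) ⧸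
      (P : Subgroup G).subgroupOf (Subgroup.normalizer ((P : Subgroup G) : Set G))) →*
        MulAut ↥(P : Subgroup G), ∀ n, θb (QuotientGroup.mk n) = θ n :=
    ⟨QuotientGroup.lift _ θ hker, fun n => rfl⟩
  haveI : Fintype (↥(Subgroup.normalizer ((P : Subgroup G) : Set G)) ⧸
      (P : Subgroup G).subgroupOf (Subgroup.normalizer ((P : Subgroup G) : Set G))) :=
    Fintype.ofFinite _
  obtain ⟨ν, hν⟩ : ∃ ν : ↥(P : Subgroup G) →* ↥(P : Subgroup G), ∀ u, ν u = ∏ q, θb q u :=
    ⟨∏ q, (θb q).toMonoidHom, fun u => by simp⟩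
  refine ⟨ν, Fintype.card (↥(Subgroup.normalizer ((P : Subgroup G) : Set G)) ⧸
      (P : Subgroup G).subgroupOf (Subgroup.normalizer ((P : Subgroup G) : Set G))), ?_, ?_, ?_⟩
  · rw [← Nat.card_eq_fintype_card, ← Subgroup.index_eq_card]
    have h1 : ((P : Subgroup G).subgroupOf (Subgroup.normalizer ((P : Subgroup G) : Set G))).index
        ∣ (P : Subgroup G).index :=
      Subgroup.relIndex_dvd_index_of_le Subgroup.le_normalizer
    have h2 : Nat.Coprime p (P : Subgroup G).index :=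
      (Nat.Prime.coprime_iff_not_dvd Fact.out).mpr P.not_dvd_index
    exact (Nat.Coprime.coprime_dvd_right h1 h2).symm
  · intro u
    rw [Subgroup.mem_centralizer_iff]
    intro n hn
    have h1 : θ ⟨n, hn⟩ (ν u) = ν u := by
      rw [hν, map_prod]
      have : ∀ q, θ ⟨n, hn⟩ (θb q u) = θb (QuotientGroup.mk ⟨n, hn⟩ * q) u := by
        intro q; rw [map_mul, hθb]; rfl
      simp only [this]
      exact Equiv.prod_comp (Equiv.mulLeft (QuotientGroup.mk ⟨n, hn⟩ :
        ↥(Subgroup.normalizer ((P : Subgroup G) : Set G)) ⧸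
          (P : Subgroup G).subgroupOf (Subgroup.normalizer ((P : Subgroup G) : Set G))))
        (fun q => θb q u)
    have h2 := congrArg Subtype.val h1
    rw [hθ] at h2
    exact mul_inv_eq_iff_eq_mul.mp h2
  · intro u hu
    rw [hν]
    have : ∀ q, θb q u = u := by
      intro q
      obtain ⟨n, rfl⟩ := QuotientGroup.mk_surjective q
      rw [hθb]
      apply Subtype.ext
      rw [hθ]
      have := (Subgroup.mem_centralizer_iff.mp hu) n n.2
      rw [this, mul_inv_cancel_right]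
    simp only [this, Finset.prod_const, Finset.card_univ]

/-- With an abelian Sylow `p`-subgroup `P`, `G` maps onto `P ∩ Z(N_G(P))`. -/
theorem exists_hom (P : Sylow p G) [IsMulCommutative (P : Subgroup G)] :
    ∃ W : G →* ↥((P : Subgroup G) ⊓
      Subgroup.centralizer (Subgroup.normalizer ((P : Subgroup G) : Set G) : Set G)),
      Function.Surjective W := by
  obtain ⟨ν, m, hm, hνc, hνp⟩ := exists_norm P
  obtain ⟨Z, hZ⟩ : ∃ Z : Subgroup G, Z = (P : Subgroup G) ⊓
      Subgroup.centralizer (Subgroup.normalizer ((P : Subgroup G) : Set G) : Set G) := ⟨_, rfl⟩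
  rw [← hZ]
  have hZP : Z ≤ (P : Subgroup G) := hZ ▸ inf_le_left
  have hZC : Z ≤ Subgroup.centralizer (Subgroup.normalizer ((P : Subgroup G) : Set G) : Set G) :=
    hZ ▸ inf_le_right
  haveI : IsMulCommutative ↥Z := ⟨⟨fun a b => by
    apply Subtype.ext
    have h1 := mul_comm (⟨a, hZP a.2⟩ : ↥(P : Subgroup G)) ⟨b, hZP b.2⟩
    have h2 : (a : G) * (b : G) = (b : G) * (a : G) := congrArg Subtype.val h1
    exact h2⟩⟩
  obtain ⟨ν', hν'⟩ : ∃ ν' : ↥(P : Subgroup G) →* ↥Z, ∀ u, ((ν' u : ↥Z) : G) = (ν u : G) :=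
    ⟨((P : Subgroup G).subtype.comp ν).codRestrict Z
      (fun u => by rw [hZ]; exact ⟨(ν u).2, hνc u⟩), fun u => rfl⟩
  have hW : ∀ z : ↥Z, MonoidHom.transfer ν' (z : G) = z ^ (m * (P : Subgroup G).index) := by
    intro z
    have hzP : (z : G) ∈ (P : Subgroup G) := hZP z.2
    have hzC := hZC z.2
    have key : ∀ (k : ℕ) (g₀ : G), g₀⁻¹ * (z : G) ^ k * g₀ ∈ (P : Subgroup G) →
        g₀⁻¹ * (z : G) ^ k * g₀ = (z : G) ^ k := by
      intro k g₀ hk
      obtain ⟨n, hn, e⟩ := P.conj_eq_normalizer_conj_of_mem ((z : G) ^ k) g₀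
        (Subgroup.pow_mem _ hzP k) hk
      rw [e]
      have hc : n * (z : G) ^ k = (z : G) ^ k * n :=
        (Subgroup.mem_centralizer_iff.mp (Subgroup.pow_mem _ hzC k)) n hn
      rw [mul_assoc, ← hc, inv_mul_cancel_left]
    rw [MonoidHom.transfer_eq_pow ν' (z : G) key]
    apply Subtype.ext
    rw [hν']
    have e1 : (⟨(z : G) ^ (P : Subgroup G).index, MonoidHom.transfer_eq_pow_aux (z : G) key⟩ :
        ↥(P : Subgroup G)) = (⟨z, hzP⟩ : ↥(P : Subgroup G)) ^ (P : Subgroup G).index := rfl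
    rw [e1, map_pow, hνp ⟨z, hzP⟩ hzC, ← pow_mul]
    rfl
  refine ⟨MonoidHom.transfer ν', ?_⟩
  intro z
  have hcard : (Nat.card ↥Z).Coprime (m * (P : Subgroup G).index) := by
    obtain ⟨k, hk⟩ := IsPGroup.iff_card.mp (P.isPGroup'.to_le hZP)
    rw [hk]
    have h2 : Nat.Coprime p (P : Subgroup G).index :=
      (Nat.Prime.coprime_iff_not_dvd Fact.out).mpr P.not_dvd_index
    exact Nat.Coprime.pow_left k (Nat.Coprime.mul_right hm.symm h2)
  refine ⟨(((powCoprime hcard).symm z : ↥Z) : G), ?_⟩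
  rw [hW]
  exact (powCoprime hcard).apply_symm_apply z

/-- If `G` is generated by its `p'`-elements and has an abelian Sylow `p`-subgroup `P`, then
`P ∩ Z(N_G(P)) = 1`. -/
theorem inf_centralizer_normalizer_eq_bot (P : Sylow p G) [IsMulCommutative (P : Subgroup G)]
    (h : Subgroup.closure {g : G | Nat.Coprime (orderOf g) p} = ⊤) :
    (P : Subgroup G) ⊓
      Subgroup.centralizer (Subgroup.normalizer ((P : Subgroup G) : Set G) : Set G) = ⊥ := by
  obtain ⟨W, hW⟩ := exists_hom P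
  have hZp : IsPGroup p ↥((P : Subgroup G) ⊓
      Subgroup.centralizer (Subgroup.normalizer ((P : Subgroup G) : Set G) : Set G)) :=
    P.isPGroup'.to_le inf_le_left
  have hker : W.ker = ⊤ := by
    rw [eq_top_iff, ← h, Subgroup.closure_le]
    intro g hg
    rw [SetLike.mem_coe, MonoidHom.mem_ker]
    obtain ⟨k, hk⟩ := (IsPGroup.iff_orderOf.mp hZp) (W g)
    have h1 : orderOf (W g) ∣ orderOf g := orderOf_map_dvd W g
    rw [hk] at h1
    have h2 : Nat.Coprime (p ^ k) (orderOf g) := Nat.Coprime.pow_left k (Nat.Coprime.symm hg)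
    have h3 : p ^ k = 1 := Nat.Coprime.eq_one_of_dvd h2 h1
    rw [h3] at hk
    exact orderOf_eq_one_iff.mp hk
  rw [eq_bot_iff]
  intro z hz
  obtain ⟨g, hg⟩ := hW ⟨z, hz⟩
  have : W g = 1 := by
    have : g ∈ W.ker := by rw [hker]; trivial
    exact MonoidHom.mem_ker.mp this
  rw [this] at hg
  rw [Subgroup.mem_bot]
  exact (congrArg Subtype.val hg).symm

end Cfsg.Agent.Lib.Helper2.AbSylow
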