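import Mathlib

set_option autoImplicit false

namespace Cfsg.Agent.Lib.Helper2

open Pointwise in
theorem mem_smul_sylow {G : Type*} [Group G] {p : ℕ} (P : Sylow p G) (h x : G) :
    x ∈ ((h • P : Sylow p G) : Subgroup G) ↔ h⁻¹ * x * h ∈ (P : Subgroup G) := by
  rw [Sylow.coe_subgroup_smul, Subgroup.mem_pointwise_smul_iff_inv_smul_mem]
  simp [MulAut.smul_def]

theorem mem_map_conj {G : Type*} [Group G] (A : Subgroup G) (g x : G) :
    x ∈ A.map (MulAut.conj g).toMonoidHom ↔ g⁻¹ * x * g ∈ A := by
  constructor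
  · rintro ⟨a, ha, rfl⟩
    simpa [MulAut.conj_apply, mul_assoc] using ha
  · intro h
    refine ⟨g⁻¹ * x * g, h, ?_⟩
    simp [MulAut.conj_apply, mul_assoc]

theorem conj_mem_map_conj {G : Type*} [Group G] (A : Subgroup G) (g a : G) (ha : a ∈ A) :
    g * a * g⁻¹ ∈ A.map (MulAut.conj g).toMonoidHom :=
  ⟨a, ha, by simp [MulAut.conj_apply]⟩

theorem map_conj_map_conj {G : Type*} [Group G] (A : Subgroup G) (g h : G) :
    (A.map (MulAut.conj g).toMonoidHom).map (MulAut.conj h).toMonoidHom
      = A.map (MulAut.conj (h * g)).toMonoidHom := by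
  ext x
  simp only [mem_map_conj]
  constructor <;> intro hx <;> convert hx using 1 <;> group

theorem map_conj_one {G : Type*} [Group G] (A : Subgroup G) :
    A.map (MulAut.conj (1 : G)).toMonoidHom = A := by
  ext x
  simp

theorem card_map_conj {G : Type*} [Group G] (A : Subgroup G) (g : G) :
    Nat.card (A.map (MulAut.conj g).toMonoidHom) = Nat.card A := by
  have : Function.Injective (MulAut.conj g).toMonoidHom := (MulAut.conj g).injective
  exact Nat.card_congr (A.equivMapOfInjective _ this).symm.toEquiv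

/-- For a finite subgroup, a conjugate contained in it is equal to it. -/
theorem map_conj_eq_of_le {G : Type*} [Group G] (A : Subgroup G) [Finite A] (g : G)
    (h : A.map (MulAut.conj g).toMonoidHom ≤ A) : A.map (MulAut.conj g).toMonoidHom = A := by
  apply Subgroup.eq_of_le_of_card_ge h
  rw [card_map_conj]

theorem isPGroup_map_conj {G : Type*} [Group G] {p : ℕ} (A : Subgroup G) (g : G)
    (hA : IsPGroup p A) : IsPGroup p (A.map (MulAut.conj g).toMonoidHom) :=
  hA.map _

end Cfsg.Agent.Lib.Helper2
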