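import Mathlib
import Cfsg.Prelude.Def_Local
import Cfsg.Agent.Lib.Helper2.Comp17
import Cfsg.Agent.Lib.Lead.Sylow

set_option autoImplicit false
set_option linter.unusedSectionVars false
set_option linter.style.haveILetI false

/-! conjugation invariance of `p`-components; normality of the `p`-layer; `O_{p'}` of
conjugate subgroups. -/

namespace Cfsg.Agent.Lib.Helper2.Comp

open Cfsg
open scoped commutatorElement

section conj
variable {X : Type*} [Group X]

theorem map_conj_map {Y : Type*} [Group Y] (f : X →* Y) (K : Subgroup X) (g : X) :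
    (K.map (MulAut.conj g).toMonoidHom).map f =
      (K.map f).map (MulAut.conj (f g)).toMonoidHom := by
  rw [Subgroup.map_map, Subgroup.map_map]
  congr 1
  ext x
  simp

theorem map_conj_inv_map (g : X) (H : Subgroup X) :
    (H.map (MulAut.conj g⁻¹).toMonoidHom).map (MulAut.conj g).toMonoidHom = H := by
  rw [Subgroup.map_map]
  have : (MulAut.conj g).toMonoidHom.comp (MulAut.conj g⁻¹).toMonoidHom = MonoidHom.id X := by
    ext x; simp [mul_assoc]
  rw [this, Subgroup.map_id]

theorem map_conj_map_inv (g : X) (H : Subgroup X) :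
    (H.map (MulAut.conj g).toMonoidHom).map (MulAut.conj g⁻¹).toMonoidHom = H := by
  have := map_conj_inv_map g⁻¹ H
  rwa [inv_inv] at this

theorem map_conj_mul (g h : X) (H : Subgroup X) :
    H.map (MulAut.conj (g * h)).toMonoidHom =
      (H.map (MulAut.conj h).toMonoidHom).map (MulAut.conj g).toMonoidHom := by
  rw [Subgroup.map_map]; congr 1; ext x; simp [mul_assoc]

theorem map_conj_eq_of_mem_normalizer {g : X} {H : Subgroup X}
    (hg : g ∈ Subgroup.normalizer (H : Set X)) : H.map (MulAut.conj g).toMonoidHom = H := by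
  ext x
  constructor
  · rintro ⟨y, hy, rfl⟩
    exact (Subgroup.mem_normalizer_iff.mp hg y).mp hy
  · intro hx
    refine ⟨g⁻¹ * x * g, ?_, by simp [mul_assoc]⟩
    have := (Subgroup.mem_normalizer_iff.mp (Subgroup.inv_mem _ hg) x).mp hx
    simpa using this

theorem mem_normalizer_of_map_conj_eq {g : X} {H : Subgroup X}
    (h : H.map (MulAut.conj g).toMonoidHom = H) : g ∈ Subgroup.normalizer (H : Set X) := by
  rw [Subgroup.mem_normalizer_iff]
  intro x
  constructor
  · intro hx
    rw [← h]; exact ⟨x, hx, rfl⟩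
  · intro hx
    rw [← h] at hx
    obtain ⟨y, hy, hyx⟩ := hx
    have : y = x := by
      have h1 : g * y * g⁻¹ = g * x * g⁻¹ := hyx
      simpa using h1
    rw [← this]; exact hy

theorem map_conj_le_sup {M D : Subgroup X} (hM : M.Normal) {m : X} (hm : m ∈ M) :
    D.map (MulAut.conj m).toMonoidHom ≤ M ⊔ D := by
  rintro _ ⟨d, hd, rfl⟩
  have h1 : m * d * m⁻¹ * d⁻¹ ∈ M := by
    have := M.mul_mem hm (hM.conj_mem m⁻¹ (M.inv_mem hm) d)
    simpa [mul_assoc] using this
  have h2 : m * d * m⁻¹ = (m * d * m⁻¹ * d⁻¹) * d := by group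
  show m * d * m⁻¹ ∈ M ⊔ D
  rw [h2]
  exact Subgroup.mul_mem _ ((le_sup_left : M ≤ M ⊔ D) h1) ((le_sup_right : D ≤ M ⊔ D) hd)

theorem isComponent_map_conj {K : Subgroup X} (hK : IsComponent K) (g : X) :
    IsComponent (K.map (MulAut.conj g).toMonoidHom) :=
  ⟨hK.1.map (MulAut.conj g).surjective,
    Cfsg.Agent.Lib.Helper3.isQuasisimple_of_mulEquiv
      (K.equivMapOfInjective _ (MulAut.conj g).injective) hK.2⟩

theorem map_conj_centralizer_le (g : X) (S : Subgroup X) :
    (Subgroup.centralizer (S : Set X)).map (MulAut.conj g).toMonoidHom ≤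
      Subgroup.centralizer ((S.map (MulAut.conj g).toMonoidHom : Subgroup X) : Set X) := by
  rintro _ ⟨c, hc, rfl⟩
  rw [Subgroup.mem_centralizer_iff]
  rintro _ ⟨s, hs, rfl⟩
  have h1 := Subgroup.mem_centralizer_iff.mp hc s hs
  show g * s * g⁻¹ * (g * c * g⁻¹) = g * c * g⁻¹ * (g * s * g⁻¹)
  have e1 : g * s * g⁻¹ * (g * c * g⁻¹) = g * (s * c) * g⁻¹ := by group
  have e2 : g * c * g⁻¹ * (g * s * g⁻¹) = g * (c * s) * g⁻¹ := by group
  rw [e1, e2, h1]

theorem map_conj_centralizer (g : X) (S : Subgroup X) :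
    (Subgroup.centralizer (S : Set X)).map (MulAut.conj g).toMonoidHom =
      Subgroup.centralizer ((S.map (MulAut.conj g).toMonoidHom : Subgroup X) : Set X) := by
  apply le_antisymm (map_conj_centralizer_le g S)
  have h1 := map_conj_centralizer_le g⁻¹ (S.map (MulAut.conj g).toMonoidHom)
  rw [map_conj_map_inv] at h1
  have h2 := Subgroup.map_mono (f := (MulAut.conj g).toMonoidHom) h1
  rwa [map_conj_inv_map] at h2

end conj

section
variable {X : Type*} [Group X] [Finite X] (p : ℕ) [Fact p.Prime]

theorem isPComponent_map_conj {K : Subgroup X} (hK : IsPComponent p K) (g : X) :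
    IsPComponent p (K.map (MulAut.conj g).toMonoidHom) := by
  refine ⟨hK.1.map (MulAut.conj g).surjective, ?_, ?_⟩
  · rw [map_conj_map]; exact isComponent_map_conj hK.2.1 _
  · intro H hH hle hmap
    have h1 : H.map (MulAut.conj g⁻¹).toMonoidHom = K := by
      apply hK.2.2 _ (hH.map (MulAut.conj g⁻¹).surjective)
      · have := Subgroup.map_mono (f := (MulAut.conj g⁻¹).toMonoidHom) hle
        rwa [map_conj_map_inv] at this
      · rw [map_conj_map, hmap, map_conj_map, map_inv, map_conj_map_inv]
    rw [← h1, map_conj_inv_map]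

theorem pLayer_normal : (pLayer p X).Normal := by
  have key : ∀ g : X, (pLayer p X).map (MulAut.conj g).toMonoidHom ≤ pLayer p X := by
    intro g
    rw [Subgroup.map_le_iff_le_comap]
    apply sSup_le
    intro K hK
    rw [← Subgroup.map_le_iff_le_comap]
    exact le_pLayer p (isPComponent_map_conj p hK g)
  apply Subgroup.normalizer_eq_top_iff.mp
  rw [eq_top_iff]
  intro g _
  apply mem_normalizer_of_map_conj_eq
  apply le_antisymm (key g)
  have := Subgroup.map_mono (f := (MulAut.conj g).toMonoidHom) (key g⁻¹)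
  rwa [map_conj_inv_map] at this

theorem le_map_pPrimeCore {N H : Subgroup X} (hNH : N ≤ H)
    (hn : H ≤ Subgroup.normalizer (N : Set X)) (hc : (Nat.card N).Coprime p) :
    N ≤ (pPrimeCore p H).map H.subtype := by
  have hn' : (N.subgroupOf H).Normal := (Subgroup.normal_subgroupOf_iff_le_normalizer hNH).mpr hn
  have hc' : (Nat.card (N.subgroupOf H)).Coprime p := by
    rw [Nat.card_congr (Subgroup.subgroupOfEquivOfLe hNH).toEquiv]; exact hc
  have h1 := Subgroup.map_mono (f := H.subtype) (le_pPrimeCore hn' hc')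
  rwa [Subgroup.map_subgroupOf_eq_of_le hNH] at h1

theorem map_conj_pPrimeCore_le (g : X) (H H' : Subgroup X)
    (h : H.map (MulAut.conj g).toMonoidHom = H') :
    ((pPrimeCore p H).map H.subtype).map (MulAut.conj g).toMonoidHom ≤
      (pPrimeCore p H').map H'.subtype := by
  subst h
  apply le_map_pPrimeCore p
  · exact Subgroup.map_mono (Subgroup.map_subtype_le _)
  · refine le_trans (Subgroup.map_mono ?_) (Subgroup.le_normalizer_map _)
    exact Subgroup.le_normalizer.trans (normalizer_le_normalizer_pPrimeCore p H)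
  · rw [← Nat.card_congr (Subgroup.equivMapOfInjective _ _ (MulAut.conj g).injective).toEquiv]
    exact card_map_pPrimeCore p H

/-- `O_{p'}(C_X(S))` viewed in `X` -/
abbrev pCentCore (S : Subgroup X) : Subgroup X :=
  (pPrimeCore p ↥(Subgroup.centralizer (S : Set X))).map (Subgroup.centralizer (S : Set X)).subtype

theorem map_conj_pCentCore_le (g : X) (S : Subgroup X) :
    (pCentCore p S).map (MulAut.conj g).toMonoidHom ≤
      pCentCore p (S.map (MulAut.conj g).toMonoidHom) :=
  map_conj_pPrimeCore_le p g _ _ (map_conj_centralizer g S)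

theorem pCentCore_map_conj_le (g : X) (S : Subgroup X) :
    pCentCore p (S.map (MulAut.conj g).toMonoidHom) ≤
      (pCentCore p S).map (MulAut.conj g).toMonoidHom := by
  have h1 := map_conj_pCentCore_le p g⁻¹ (S.map (MulAut.conj g).toMonoidHom)
  rw [map_conj_map_inv] at h1
  have h2 := Subgroup.map_mono (f := (MulAut.conj g).toMonoidHom) h1
  rwa [map_conj_inv_map] at h2

theorem card_pCentCore_coprime (S : Subgroup X) : (Nat.card (pCentCore p S)).Coprime p :=
  card_map_pPrimeCore p _

theorem normalizer_le_normalizer_pCentCore (S : Subgroup X) :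
    Subgroup.normalizer (S : Set X) ≤ Subgroup.normalizer ((pCentCore p S : Subgroup X) : Set X) :=
  (le_normalizer_centralizer le_rfl).trans (normalizer_le_normalizer_pPrimeCore p _)

end

end Cfsg.Agent.Lib.Helper2.Comp
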