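import Mathlib
import Cfsg.Prelude.Def_Local
import Cfsg.Agent.Lib.Helper2.Comp18

set_option autoImplicit false
set_option linter.unusedSectionVars false
set_option linter.style.haveILetI false

/-! the extended `p`-layer: `L_{p'}(X) O_{p'}(X) O_{p'}(C_X(T))`, `T` a Sylow `p`-subgroup of
`L_{p'}(X) O_{p',p}(X)`. -/

namespace Cfsg.Agent.Lib.Helper2.Comp

open Cfsg
open scoped commutatorElement

section
variable {X : Type*} [Group X] [Finite X] (p : ℕ) [Fact p.Prime]

/-- the image in `X` of a Sylow subgroup of a subgroup -/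
abbrev sylImg {N : Subgroup X} (T : Sylow p N) : Subgroup X := (T : Subgroup N).map N.subtype

theorem sylImg_le {N : Subgroup X} (T : Sylow p N) : sylImg p T ≤ N := Subgroup.map_subtype_le _

theorem sylImg_isPGroup {N : Subgroup X} (T : Sylow p N) : IsPGroup p (sylImg p T) :=
  T.isPGroup'.map _

theorem card_sylImg {N : Subgroup X} (T : Sylow p N) : Nat.card (sylImg p T) = Nat.card T :=
  (Nat.card_congr ((T : Subgroup N).equivMapOfInjective N.subtype N.subtype_injective).toEquiv).symm

theorem relIndex_sylImg {N : Subgroup X} (T : Sylow p N) :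
    (sylImg p T).relIndex N = (T : Subgroup N).index := by
  unfold Subgroup.relIndex
  rw [Subgroup.subgroupOf, Subgroup.comap_map_eq_self_of_injective (Subgroup.subtype_injective _)]

theorem not_dvd_relIndex_sylImg {N : Subgroup X} (T : Sylow p N) :
    ¬ p ∣ (sylImg p T).relIndex N := by
  rw [relIndex_sylImg]; exact T.not_dvd_index

theorem sylImg_smul {N : Subgroup X} (T : Sylow p N) (n : N) :
    sylImg p (n • T) = (sylImg p T).map (MulAut.conj (n : X)).toMonoidHom := by
  ext z
  constructor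
  · rintro ⟨y, hy, rfl⟩
    rw [SetLike.mem_coe, Cfsg.Agent.Lib.Lead.mem_smul_sylow] at hy
    exact ⟨((n⁻¹ * y * n : N) : X), ⟨_, hy, rfl⟩, by simp [mul_assoc]⟩
  · rintro ⟨_, ⟨y, hy, rfl⟩, rfl⟩
    refine ⟨n * y * n⁻¹, ?_, by simp⟩
    rw [SetLike.mem_coe, Cfsg.Agent.Lib.Lead.mem_smul_sylow]
    have e : n⁻¹ * (n * y * n⁻¹) * n = y := by group
    rw [e]; exact hy

theorem exists_sylow_eq {N : Subgroup X} (T : Sylow p N) {S : Subgroup X} (hS : S ≤ N)
    (hc : Nat.card S = Nat.card (sylImg p T)) : ∃ T' : Sylow p N, sylImg p T' = S := by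
  have hcard : Nat.card (S.subgroupOf N) = p ^ (Nat.card N).factorization p := by
    rw [Nat.card_congr (Subgroup.subgroupOfEquivOfLe hS).toEquiv, hc, card_sylImg,
      T.card_eq_multiplicity]
  refine ⟨Sylow.ofCard (S.subgroupOf N) hcard, ?_⟩
  show ((Sylow.ofCard (S.subgroupOf N) hcard : Sylow p N) : Subgroup N).map N.subtype = S
  rw [Sylow.coe_ofCard, Subgroup.map_subgroupOf_eq_of_le hS]

theorem exists_conj_mem_sylImg {N : Subgroup X} (T : Sylow p N) {x : X} (hx : x ∈ N) {k : ℕ}
    (hk : x ^ (p ^ k) = 1) : ∃ n ∈ N, n * x * n⁻¹ ∈ sylImg p T := by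
  have hP : IsPGroup p (Subgroup.zpowers (⟨x, hx⟩ : N)) := by
    rintro ⟨g, hg⟩
    obtain ⟨i, rfl⟩ := Subgroup.mem_zpowers_iff.mp hg
    refine ⟨k, Subtype.ext ?_⟩
    have h1 : (⟨x, hx⟩ : N) ^ (p ^ k) = 1 := Subtype.ext (by simpa using hk)
    show ((⟨x, hx⟩ : N) ^ i) ^ (p ^ k) = 1
    rw [← zpow_natCast, ← zpow_mul, mul_comm, zpow_mul, zpow_natCast, h1, one_zpow]
  obtain ⟨Q, hQ⟩ := hP.exists_le_sylow
  obtain ⟨n, hn⟩ := MulAction.exists_smul_eq N Q T
  refine ⟨n, n.2, ?_⟩
  have h1 : (⟨x, hx⟩ : N) ∈ Q := hQ (Subgroup.mem_zpowers _)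
  have h2 : n * ⟨x, hx⟩ * n⁻¹ ∈ ((n • Q : Sylow p N) : Subgroup N) := by
    rw [Cfsg.Agent.Lib.Lead.mem_smul_sylow]
    have e : n⁻¹ * (n * (⟨x, hx⟩ : N) * n⁻¹) * n = ⟨x, hx⟩ := by group
    rw [e]; exact h1
  rw [hn] at h2
  exact ⟨_, h2, rfl⟩

/-- a Sylow `p`-subgroup `S` of `X` containing a Sylow `p`-subgroup `T` of a normal subgroup
normalizes `T` -/
theorem sylow_le_normalizer_sylImg {N : Subgroup X} (hN : N.Normal) (T : Sylow p N)
    (S : Sylow p X) (hTS : sylImg p T ≤ S) :
    (S : Subgroup X) ≤ Subgroup.normalizer ((sylImg p T : Subgroup X) : Set X) := by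
  have h1 : (S : Subgroup X) ⊓ N = sylImg p T := by
    have hQ : IsPGroup p (((S : Subgroup X) ⊓ N).subgroupOf N) :=
      (S.isPGroup'.to_le inf_le_left).comap_subtype
    have hle : (T : Subgroup N) ≤ ((S : Subgroup X) ⊓ N).subgroupOf N := by
      intro t ht
      rw [Subgroup.mem_subgroupOf]
      exact ⟨hTS ⟨t, ht, rfl⟩, t.2⟩
    have h2 := T.is_maximal' hQ hle
    have h3 := congrArg (Subgroup.map N.subtype) h2
    rwa [Subgroup.map_subgroupOf_eq_of_le inf_le_right] at h3
  rw [← h1]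
  apply le_normalizer_inf Subgroup.le_normalizer
  rw [Subgroup.normalizer_eq_top_iff.mpr hN]
  exact le_top

/-- `L_{p'}(X) O_{p',p}(X)` -/
abbrev extN (p : ℕ) (X : Type*) [Group X] : Subgroup X := pLayer p X ⊔ pPrimePCore p X

theorem extN_normal : (extN p X).Normal :=
  Subgroup.sup_normal _ _ (hH := pLayer_normal p) (hK := pPrimePCore_normal' p)

theorem layerCore_normal : (pLayer p X ⊔ pPrimeCore p X).Normal :=
  Subgroup.sup_normal _ _ (hH := pLayer_normal p) (hK := Cfsg.Agent.Lib.Lead.pPrimeCore_normal p X)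

theorem extN_le_sup_sylImg (T : Sylow p (extN p X)) :
    extN p X ≤ (pLayer p X ⊔ pPrimeCore p X) ⊔ sylImg p T := by
  have hM := layerCore_normal (X := X) p
  have hOR : pPrimeCore p X ≤ pPrimePCore p X := pPrimeCore_le_comap p _
  have hNeq : extN p X = (pLayer p X ⊔ pPrimeCore p X) ⊔ pPrimePCore p X := by
    show pLayer p X ⊔ pPrimePCore p X = _
    rw [sup_assoc, sup_eq_right.mpr hOR]
  have hMN : pLayer p X ⊔ pPrimeCore p X ≤ extN p X := by rw [hNeq]; exact le_sup_left
  rw [← Subgroup.relIndex_eq_one]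
  have h1 : ((pLayer p X ⊔ pPrimeCore p X) ⊔ sylImg p T).relIndex (extN p X) ∣
      (pLayer p X ⊔ pPrimeCore p X).relIndex (extN p X) :=
    Subgroup.relIndex_dvd_of_le_left _ le_sup_left
  have h2 : ((pLayer p X ⊔ pPrimeCore p X) ⊔ sylImg p T).relIndex (extN p X) ∣
      (sylImg p T).relIndex (extN p X) :=
    Subgroup.relIndex_dvd_of_le_left _ le_sup_right
  have h3 : (pLayer p X ⊔ pPrimeCore p X).relIndex (extN p X) ∣
      Nat.card (pCore p (X ⧸ pPrimeCore p X)) := by
    have e1 : (pLayer p X ⊔ pPrimeCore p X).relIndex (extN p X) =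
        (pLayer p X ⊔ pPrimeCore p X).relIndex (pPrimePCore p X) := by
      rw [hNeq]
      haveI := hM
      exact Subgroup.relIndex_sup_left _ _
    have e2 : (pPrimeCore p X).relIndex (pPrimePCore p X) =
        Nat.card (pCore p (X ⧸ pPrimeCore p X)) := by
      have e3 : pPrimeCore p X = (⊥ : Subgroup (X ⧸ pPrimeCore p X)).comap
          (QuotientGroup.mk' (pPrimeCore p X)) := by
        rw [MonoidHom.comap_bot, QuotientGroup.ker_mk']
      conv_lhs => rw [e3]
      rw [Subgroup.relIndex_comap]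
      have e4 : (pPrimePCore p X).map (QuotientGroup.mk' (pPrimeCore p X)) =
          pCore p (X ⧸ pPrimeCore p X) :=
        Subgroup.map_comap_eq_self_of_surjective (QuotientGroup.mk'_surjective _) _
      rw [e4, Subgroup.relIndex_bot_left]
    rw [e1, ← e2, ← Subgroup.inf_relIndex_right]
    exact Subgroup.relIndex_dvd_of_le_left _ (le_inf le_sup_right hOR)
  obtain ⟨a, ha⟩ := IsPGroup.iff_card.mp (pCore_quotient_isPGroup (X := X) p)
  rw [ha] at h3
  obtain ⟨j, hj, hj'⟩ := (Nat.dvd_prime_pow (Fact.out : p.Prime)).mp (h1.trans h3)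
  rcases Nat.eq_zero_or_pos j with h0 | hpos
  · rw [hj', h0, pow_zero]
  · exfalso
    apply not_dvd_relIndex_sylImg p T
    refine dvd_trans ?_ h2
    rw [hj']
    exact dvd_pow_self p hpos.ne'

/-- the cores of the centralizers of two Sylow subgroups of `L_{p'} O_{p',p}` -/
theorem pCentCore_sylImg_le (T T' : Sylow p (extN p X)) :
    pCentCore p (sylImg p T') ≤ (pLayer p X ⊔ pPrimeCore p X) ⊔ pCentCore p (sylImg p T) := by
  have hM := layerCore_normal (X := X) p
  obtain ⟨n, hn⟩ := MulAction.exists_smul_eq (extN p X) T T'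
  have hn' : (n : X) ∈ (pLayer p X ⊔ pPrimeCore p X) ⊔ sylImg p T := extN_le_sup_sylImg p T n.2
  have hnorm : sylImg p T ≤
      Subgroup.normalizer ((pLayer p X ⊔ pPrimeCore p X : Subgroup X) : Set X) := by
    rw [Subgroup.normalizer_eq_top_iff.mpr hM]; exact le_top
  obtain ⟨m, hm, t, ht, hmt⟩ := Cfsg.Agent.Lib.Lead.mem_sup_of_le_normalizer hnorm hn'
  have e : sylImg p T' = (sylImg p T).map (MulAut.conj m).toMonoidHom := by
    rw [← hn, sylImg_smul, hmt, map_conj_mul,
      map_conj_eq_of_mem_normalizer (Subgroup.le_normalizer ht)]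
  rw [e]
  exact (pCentCore_map_conj_le p m _).trans (map_conj_le_sup hM hm)

theorem ext_eq (T : Sylow p (extN p X)) :
    pLayer p X ⊔ pPrimeCore p X ⊔ ⨆ T' : Sylow p (extN p X), pCentCore p (sylImg p T') =
      pLayer p X ⊔ pPrimeCore p X ⊔ pCentCore p (sylImg p T) := by
  apply le_antisymm
  · exact sup_le le_sup_left (iSup_le (fun T' => pCentCore_sylImg_le p T T'))
  · exact sup_le_sup_left (le_iSup (fun T' : Sylow p (extN p X) => pCentCore p (sylImg p T')) T) _

theorem ext_normal :
    (pLayer p X ⊔ pPrimeCore p X ⊔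
      ⨆ T' : Sylow p (extN p X), pCentCore p (sylImg p T')).Normal := by
  have hM := layerCore_normal (X := X) p
  have hN := extN_normal (X := X) p
  have key : ∀ g : X, (pLayer p X ⊔ pPrimeCore p X ⊔
      ⨆ T' : Sylow p (extN p X), pCentCore p (sylImg p T')).map (MulAut.conj g).toMonoidHom ≤
      pLayer p X ⊔ pPrimeCore p X ⊔ ⨆ T' : Sylow p (extN p X), pCentCore p (sylImg p T') := by
    intro g
    rw [Subgroup.map_sup, Subgroup.map_iSup]
    apply sup_le_sup
    · rw [map_conj_eq_of_mem_normalizer]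
      rw [Subgroup.normalizer_eq_top_iff.mpr hM]; trivial
    · apply iSup_le
      intro T
      have hS : (sylImg p T).map (MulAut.conj g).toMonoidHom ≤ extN p X := by
        have h1 := Subgroup.map_mono (f := (MulAut.conj g).toMonoidHom) (sylImg_le p T)
        rwa [map_conj_eq_of_mem_normalizer (g := g) (H := extN p X) (by
          rw [Subgroup.normalizer_eq_top_iff.mpr hN]; trivial)] at h1
      have hc : Nat.card ((sylImg p T).map (MulAut.conj g).toMonoidHom) =
          Nat.card (sylImg p T) :=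
        (Nat.card_congr (Subgroup.equivMapOfInjective _ _ (MulAut.conj g).injective).toEquiv).symm
      obtain ⟨T', hT'⟩ := exists_sylow_eq p T hS hc
      refine le_trans (map_conj_pCentCore_le p g _) ?_
      rw [← hT']
      exact le_iSup (fun T' : Sylow p (extN p X) => pCentCore p (sylImg p T')) T'
  apply Subgroup.normalizer_eq_top_iff.mp
  rw [eq_top_iff]
  intro g _
  apply mem_normalizer_of_map_conj_eq
  apply le_antisymm (key g)
  have := Subgroup.map_mono (f := (MulAut.conj g).toMonoidHom) (key g⁻¹)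
  rwa [map_conj_inv_map] at this

theorem extN_le_normalizer_pComponent {K : Subgroup X} (hK : IsPComponent p K) :
    extN p X ≤ Subgroup.normalizer (K : Set X) := by
  apply sup_le (pLayer_le_normalizer p hK)
  apply le_normalizer_of_map_le_normalizer p hK
  have e4 : (pPrimePCore p X).map (QuotientGroup.mk' (pPrimeCore p X)) =
      pCore p (X ⧸ pPrimeCore p X) :=
    Subgroup.map_comap_eq_self_of_surjective (QuotientGroup.mk'_surjective _) _
  rw [e4]
  exact (solvable_subnormal_le_centralizer hK.2.1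
    (Cfsg.Agent.Lib.Lead.pCore_normal p _).isSubnormal
    (isSolvable_of_isPGroup p (pCore_quotient_isPGroup p))).trans
    (Subgroup.centralizer_le_normalizer _)

theorem pPrimeCore_le_normalizer_pComponent {K : Subgroup X} (hK : IsPComponent p K) :
    pPrimeCore p X ≤ Subgroup.normalizer (K : Set X) := by
  apply le_normalizer_of_map_le_normalizer p hK
  rw [(map_mk_eq_bot_iff p).mpr le_rfl]
  exact bot_le

/-- `O_{p'}(C_X(T))` normalizes every `p`-component -/
theorem pCentCore_le_normalizer_pComponent (T : Sylow p (extN p X)) {K : Subgroup X}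
    (hK : IsPComponent p K) :
    pCentCore p (sylImg p T) ≤ Subgroup.normalizer (K : Set X) := by
  apply le_normalizer_of_map_le_normalizer p hK
  rintro _ ⟨d, hd, rfl⟩
  have hdT : d ∈ Subgroup.centralizer ((sylImg p T : Subgroup X) : Set X) :=
    Subgroup.map_subtype_le _ hd
  by_contra hnot
  have hK' := isComponent_map_conj hK.2.1 (QuotientGroup.mk' (pPrimeCore p X) d)
  have hne : (K.map (QuotientGroup.mk' (pPrimeCore p X))).map
      (MulAut.conj (QuotientGroup.mk' (pPrimeCore p X) d)).toMonoidHom ≠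
      K.map (QuotientGroup.mk' (pPrimeCore p X)) :=
    fun heq => hnot (mem_normalizer_of_map_conj_eq heq)
  have hcomm := components_commute hK' hK.2.1 hne
  have hNK := extN_le_normalizer_pComponent p hK
  have h2 : ∀ x ∈ K, (∃ k : ℕ, x ^ (p ^ k) = 1) → QuotientGroup.mk' (pPrimeCore p X) x ∈
      Subgroup.centralizer ((K.map (QuotientGroup.mk' (pPrimeCore p X)) : Subgroup _) : Set _) := by
    rintro x hx ⟨k, hk⟩
    have hxN : x ∈ extN p X := (le_pLayer p hK).trans le_sup_left hx
    obtain ⟨n, hn, hy⟩ := exists_conj_mem_sylImg p T hxN hk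
    have hnK : n ∈ Subgroup.normalizer (K : Set X) := hNK hn
    have hyK : n * x * n⁻¹ ∈ K := (Subgroup.mem_normalizer_iff.mp hnK x).mp hx
    have hdy : d * (n * x * n⁻¹) * d⁻¹ = n * x * n⁻¹ := by
      have h0 := Subgroup.mem_centralizer_iff.mp hdT _ hy
      rw [← h0]; group
    have hπy : QuotientGroup.mk' (pPrimeCore p X) (n * x * n⁻¹) ∈
        (K.map (QuotientGroup.mk' (pPrimeCore p X))).map
          (MulAut.conj (QuotientGroup.mk' (pPrimeCore p X) d)).toMonoidHom := by
      refine ⟨QuotientGroup.mk' (pPrimeCore p X) (n * x * n⁻¹), Subgroup.mem_map_of_mem _ hyK, ?_⟩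
      show QuotientGroup.mk' (pPrimeCore p X) d * QuotientGroup.mk' (pPrimeCore p X) (n * x * n⁻¹) *
        (QuotientGroup.mk' (pPrimeCore p X) d)⁻¹ = _
      rw [← map_inv, ← map_mul, ← map_mul, hdy]
    have hπyC := hcomm hπy
    have hπn : QuotientGroup.mk' (pPrimeCore p X) n ∈ Subgroup.normalizer
        ((K.map (QuotientGroup.mk' (pPrimeCore p X)) : Subgroup _) : Set _) :=
      Subgroup.le_normalizer_map _ (Subgroup.mem_map_of_mem _ hnK)
    have hπn' := (le_normalizer_centralizer (A := K.map (QuotientGroup.mk' (pPrimeCore p X)))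
        (X := Subgroup.normalizer
          ((K.map (QuotientGroup.mk' (pPrimeCore p X)) : Subgroup _) : Set _)) le_rfl)
        (Subgroup.inv_mem _ hπn)
    have h3 := (Subgroup.mem_normalizer_iff.mp hπn' _).mp hπyC
    have e : (QuotientGroup.mk' (pPrimeCore p X) n)⁻¹ *
        QuotientGroup.mk' (pPrimeCore p X) (n * x * n⁻¹) *
        ((QuotientGroup.mk' (pPrimeCore p X) n)⁻¹)⁻¹ = QuotientGroup.mk' (pPrimeCore p X) x := by
      rw [map_mul, map_mul, map_inv]; group
    rwa [e] at h3
  have h3 : K ≤ (Subgroup.centralizer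
      ((K.map (QuotientGroup.mk' (pPrimeCore p X)) : Subgroup _) : Set _)).comap
        (QuotientGroup.mk' (pPrimeCore p X)) := by
    conv_lhs => rw [← pGenOf_eq_self_of_isPComponent p hK]
    apply (Subgroup.closure_le _).mpr
    rintro x ⟨hx, hk⟩
    exact h2 x hx hk
  exact not_le_centralizer_self hK.2.1.2 (Subgroup.map_le_iff_le_comap.mpr h3)

end

end Cfsg.Agent.Lib.Helper2.Comp
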