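import Mathlib
import Cfsg.Prelude.Def_Local
import Cfsg.Agent.Lib.Helper2.Comp19

set_option autoImplicit false
set_option linter.unusedSectionVars false
set_option linter.style.haveILetI false

/-! balance in `p`-constrained centralizers -/

namespace Cfsg.Agent.Lib.Helper2.Comp

open Cfsg
open scoped commutatorElement

theorem pLayer_eq_bot_of_isSolvable {X : Type*} [Group X] [Finite X] (p : ℕ) [Fact p.Prime]
    [Group.IsSolvable X] : pLayer p X = ⊥ := by
  rw [pLayer_eq_bot_iff, eq_bot_iff]
  apply sSup_le
  intro K hK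
  exfalso
  exact not_isSolvable_of_isQuasisimple hK.2 inferInstance

theorem centralizerPPrimeCore_coprime {G : Type*} [Group G] [Finite G] (p : ℕ) (a : G) :
    (Nat.card (centralizerPPrimeCore p a)).Coprime p :=
  card_map_pPrimeCore p _

theorem centralizerPPrimeCore_le {G : Type*} [Group G] (p : ℕ) (a : G) :
    centralizerPPrimeCore p a ≤ Subgroup.centralizer ({a} : Set G) :=
  Subgroup.map_subtype_le _

theorem centralizer_le_normalizer_centralizerPPrimeCore {G : Type*} [Group G] (p : ℕ) (a : G) :
    Subgroup.centralizer ({a} : Set G) ≤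
      Subgroup.normalizer ((centralizerPPrimeCore p a : Subgroup G) : Set G) :=
  Subgroup.le_normalizer.trans (normalizer_le_normalizer_pPrimeCore p _)

/-- balance: if `a` is a `p`-element commuting with `b` and `C_G(b)` is `p`-constrained, then
`O_{p'}(C_G(a)) ∩ C_G(b) ≤ O_{p'}(C_G(b))`. -/
theorem centralizerPPrimeCore_inf_le {G : Type*} [Group G] [Finite G] (p : ℕ) [Fact p.Prime]
    {a b : G} (hab : a * b = b * a) (hap : IsPGroup p (Subgroup.zpowers a))
    (hb : pLayer p ↥(Subgroup.centralizer ({b} : Set G)) = ⊥) :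
    centralizerPPrimeCore p a ⊓ Subgroup.centralizer ({b} : Set G) ≤ centralizerPPrimeCore p b := by
  obtain ⟨H, hH⟩ : ∃ H, H = Subgroup.centralizer ({b} : Set G) := ⟨_, rfl⟩
  obtain ⟨W, hW⟩ : ∃ W, W = centralizerPPrimeCore p a ⊓ H := ⟨_, rfl⟩
  have hWH : W ≤ H := by rw [hW]; exact inf_le_right
  have haH : a ∈ H := by
    rw [hH, Subgroup.mem_centralizer_singleton_iff]; exact hab
  have hP : IsPGroup p ((Subgroup.zpowers a).subgroupOf H) := hap.comap_subtype
  have hWc : (Nat.card (W.subgroupOf H)).Coprime p := by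
    rw [Nat.card_congr (Subgroup.subgroupOfEquivOfLe hWH).toEquiv, hW]
    exact coprime_card_of_le inf_le_left (centralizerPPrimeCore_coprime p a)
  have hWa : ∀ w ∈ W, w * a = a * w := by
    intro w hw
    rw [hW] at hw
    exact Subgroup.mem_centralizer_singleton_iff.mp (centralizerPPrimeCore_le p a hw.1)
  have hWP : W.subgroupOf H ≤
      Subgroup.centralizer (((Subgroup.zpowers a).subgroupOf H : Subgroup H) : Set H) := by
    intro w hw
    rw [Subgroup.mem_centralizer_iff]
    intro z hz
    apply Subtype.ext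
    show (z : G) * (w : G) = (w : G) * (z : G)
    have hz' : (z : G) ∈ Subgroup.zpowers a := hz
    have h1 : Subgroup.zpowers a ≤ Subgroup.centralizer ({(w : G)} : Set G) := by
      rw [Subgroup.zpowers_le, Subgroup.mem_centralizer_singleton_iff]
      exact (hWa _ hw).symm
    exact Subgroup.mem_centralizer_singleton_iff.mp (h1 hz')
  have hCW : Subgroup.centralizer (((Subgroup.zpowers a).subgroupOf H : Subgroup H) : Set H) ≤
      Subgroup.normalizer ((W.subgroupOf H : Subgroup H) : Set H) := by
    intro c hc
    have hca : (c : G) ∈ Subgroup.centralizer ({a} : Set G) := by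
      rw [Subgroup.mem_centralizer_singleton_iff]
      have h1 := Subgroup.mem_centralizer_iff.mp hc ⟨a, haH⟩ (Subgroup.mem_zpowers a)
      exact (congrArg Subtype.val h1).symm
    have hcN : (c : G) ∈ Subgroup.normalizer ((W : Subgroup G) : Set G) := by
      rw [hW]
      exact le_normalizer_inf (X := Subgroup.zpowers (c : G))
        (Subgroup.zpowers_le.mpr (centralizer_le_normalizer_centralizerPPrimeCore p a hca))
        (Subgroup.zpowers_le.mpr (Subgroup.le_normalizer c.2)) (Subgroup.mem_zpowers _)
    rw [Subgroup.mem_normalizer_iff]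
    intro h
    rw [Subgroup.mem_subgroupOf, Subgroup.mem_subgroupOf]
    exact Subgroup.mem_normalizer_iff.mp hcN (h : G)
  have hbH : pLayer p ↥H = ⊥ := by rw [hH]; exact hb
  have key := pprime_le_of_local p hbH hP hWc hWP hCW
  have h2 := Subgroup.map_mono (f := H.subtype) key
  rw [Subgroup.map_subgroupOf_eq_of_le hWH] at h2
  rw [hW, hH] at h2
  exact h2

end Cfsg.Agent.Lib.Helper2.Comp
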