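import Mathlib
import Cfsg.Prelude.Def_Local
import Cfsg.Agent.Lib.Helper2.Comp20
import Cfsg.Agent.Lib.Helper3.PSolv
import Cfsg.Agent.Lib.Helper7.PSolv3

set_option autoImplicit false
set_option linter.unusedSectionVars false
set_option linter.style.haveILetI false

/-! `p`-solvable groups have no components of order divisible by `p` -/

namespace Cfsg.Agent.Lib.Helper2.Comp

open Cfsg
open scoped commutatorElement

theorem isPSolvable_of_mulEquiv {A B : Type*} [Group A] [Group B] (p : ℕ) [Fact p.Prime]
    (e : A ≃* B) (h : IsPSolvable p A) : IsPSolvable p B :=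
  Cfsg.Agent.Lib.Helper7.PS.isPSolvable_of_surjective p e.toMonoidHom e.surjective h

theorem isPSolvable_of_le {A : Type*} [Group A] (p : ℕ) [Fact p.Prime] {K M : Subgroup A}
    (hKM : K ≤ M) (h : IsPSolvable p M) : IsPSolvable p K :=
  isPSolvable_of_mulEquiv p (Subgroup.subgroupOfEquivOfLe hKM)
    (Cfsg.Agent.Lib.Helper7.PS.isPSolvable_subgroup p (K.subgroupOf M) h)

theorem not_isPSolvable_of_isQuasisimple {L : Type*} [Group L] [Finite L] (p : ℕ) [Fact p.Prime]
    (hL : IsQuasisimple L) (hp : p ∣ Nat.card L) : ¬ IsPSolvable p L := by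
  intro h
  have hq : IsPSolvable p (L ⧸ Subgroup.center L) :=
    Cfsg.Agent.Lib.Helper3.isPSolvable_quotient p _ h
  haveI := hL.2
  haveI : Nontrivial (L ⧸ Subgroup.center L) := IsSimpleGroup.toNontrivial
  obtain ⟨M, hMn, hMne, hM⟩ := Cfsg.Agent.Lib.Helper3.exists_normal_pgroup_or_coprime hq
  have hMtop : M = ⊤ := (hMn.eq_bot_or_eq_top).resolve_left hMne
  rcases hM with hM | hM
  · -- the quotient is a p-group, hence solvable, so `L` is solvable
    have hpg : IsPGroup p (L ⧸ Subgroup.center L) := by
      intro x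
      obtain ⟨k, hk⟩ := hM ⟨x, hMtop ▸ Subgroup.mem_top x⟩
      exact ⟨k, by simpa [Subtype.ext_iff] using hk⟩
    haveI : Group.IsSolvable (L ⧸ Subgroup.center L) := by
      have := hpg.isNilpotent
      infer_instance
    haveI : Group.IsSolvable (Subgroup.center L) :=
      Group.isSolvable_of_comm (fun a b => Subtype.ext (Subgroup.mem_center_iff.mp b.2 a.1))
    have hsol : Group.IsSolvable L := by
      apply Group.isSolvable_of_ker_le_range (Subgroup.center L).subtype (QuotientGroup.mk' (Subgroup.center L))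
      rw [QuotientGroup.ker_mk', Subgroup.range_subtype]
    exact not_isSolvable_of_isQuasisimple hL hsol
  · have hidx : (Subgroup.center L).index.Coprime p := by
      rw [Subgroup.index_eq_card]
      have : Nat.card M = Nat.card (L ⧸ Subgroup.center L) := by
        rw [hMtop]; exact Subgroup.card_top
      rwa [this] at hM
    have htop := quasisimple_eq_top_of_index_coprime hL hp (Subgroup.center L) inferInstance hidx
    have hne := hL.2.toNontrivial
    have : Subsingleton (L ⧸ Subgroup.center L) := by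
      rw [htop]; exact QuotientGroup.subsingleton_quotient_top
    exact not_subsingleton _ this

/-- a group in which `C_G(P)` is `p`-solvable, `P ∈ Syl_p(O_{p',p}(G))`, is `p`-constrained -/
theorem isPConstrained_of_isPSolvable_centralizer {G : Type*} [Group G] [Finite G] {p : ℕ}
    [Fact p.Prime] (P : Sylow p ↥(pPrimePCore p G))
    (hsol : IsPSolvable p ↥(Subgroup.centralizer
      (((P : Subgroup ↥(pPrimePCore p G)).map (pPrimePCore p G).subtype : Subgroup G) : Set G))) :
    IsPConstrained p G := by
  rw [isPConstrained_iff_pLayer, pLayer_eq_bot_iff, eq_bot_iff]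
  apply sSup_le
  intro Kb hKb
  exfalso
  obtain ⟨P₀, hP₀⟩ : ∃ P₀, P₀ = (P : Subgroup (pPrimePCore p G)).map (pPrimePCore p G).subtype :=
    ⟨_, rfl⟩
  rw [← hP₀] at hsol
  have hP₀p : IsPGroup p P₀ := by rw [hP₀]; exact P.2.map _
  have hmap : P₀.map (QuotientGroup.mk' (pPrimeCore p G)) = pCore p (G ⧸ pPrimeCore p G) := by
    rw [hP₀]; exact map_sylow_pPrimePCore p P
  -- the component centralizes `O_p`
  have hcent : Kb ≤ Subgroup.centralizer ((pCore p (G ⧸ pPrimeCore p G) : Subgroup _) : Set _) := by
    have hN : (pCore p (G ⧸ pPrimeCore p G)).Normal := Cfsg.Agent.Lib.Lead.pCore_normal p _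
    have hs : Group.IsSolvable (pCore p (G ⧸ pPrimeCore p G)) :=
      isSolvable_of_isPGroup p (Cfsg.Agent.Lib.Lead.pCore_isPGroup' p)
    have := solvable_subnormal_le_centralizer hKb hN.isSubnormal hs
    exact Subgroup.le_centralizer_iff.mp this
  have hle : Kb ≤ (Subgroup.centralizer (P₀ : Set G)).map (QuotientGroup.mk' (pPrimeCore p G)) := by
    intro x hx
    obtain ⟨r, rfl⟩ := QuotientGroup.mk'_surjective (pPrimeCore p G) x
    have hr : QuotientGroup.mk' (pPrimeCore p G) r ∈ Subgroup.centralizer
        ((P₀.map (QuotientGroup.mk' (pPrimeCore p G)) : Subgroup _) : Set _) := by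
      rw [hmap]; exact hcent hx
    obtain ⟨d, hd, hrd⟩ := exists_mul_mem_centralizer p hP₀p hr
    refine ⟨r * d, hrd, ?_⟩
    rw [map_mul, mk_eq_one_of_mem p hd, mul_one]
  have h1 : IsPSolvable p ↥((Subgroup.centralizer (P₀ : Set G)).map
      (QuotientGroup.mk' (pPrimeCore p G))) :=
    Cfsg.Agent.Lib.Helper7.PS.isPSolvable_of_surjective p
      ((QuotientGroup.mk' (pPrimeCore p G)).subgroupMap (Subgroup.centralizer (P₀ : Set G)))
      (MonoidHom.subgroupMap_surjective _ _) hsol
  have h2 : IsPSolvable p ↥Kb := isPSolvable_of_le p hle h1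
  exact not_isPSolvable_of_isQuasisimple p hKb.2
    (p_dvd_card_of_isComponent p (Cfsg.Agent.Lib.Lead.pPrimeCore_quotient p) hKb) h2

end Cfsg.Agent.Lib.Helper2.Comp
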