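import Mathlib
import Cfsg.Prelude.Def_Local
import Cfsg.Agent.Lib.Helper2.Comp21

set_option autoImplicit false
set_option linter.unusedSectionVars false
set_option linter.style.haveILetI false

/-! transfer of `p`-constraint along surjections with `p'`-kernel; `p`-constraint from the
centralizer of an element of `O_p` -/

namespace Cfsg.Agent.Lib.Helper2.Comp

open Cfsg

/-- a surjection with `p'`-kernel induces an isomorphism modulo `O_{p'}` -/
theorem layer_quotient_eq_bot_of_surjective {A B : Type*} [Group A] [Group B] [Finite A] [Finite B]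
    (p : ℕ) [Fact p.Prime] (f : A →* B) (hf : Function.Surjective f)
    (hker : (Nat.card f.ker).Coprime p)
    (h : layer (A ⧸ pPrimeCore p A) = ⊥) : layer (B ⧸ pPrimeCore p B) = ⊥ := by
  have hsurj : Function.Surjective ((QuotientGroup.mk' (pPrimeCore p B)).comp f) :=
    (QuotientGroup.mk'_surjective _).comp hf
  have hk : ((QuotientGroup.mk' (pPrimeCore p B)).comp f).ker = pPrimeCore p A := by
    rw [← MonoidHom.comap_ker, QuotientGroup.ker_mk']
    apply le_antisymm
    · apply le_pPrimeCore ((Cfsg.Agent.Lib.Lead.pPrimeCore_normal p B).comap f)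
      have hle : f.ker ≤ (pPrimeCore p B).comap f := by
        intro x hx
        rw [Subgroup.mem_comap, MonoidHom.mem_ker.mp hx]; exact one_mem _
      have h1 : f.ker.relIndex ((pPrimeCore p B).comap f) = Nat.card (pPrimeCore p B) := by
        have e3 : f.ker = (⊥ : Subgroup B).comap f := by rw [MonoidHom.comap_bot]
        conv_lhs => rw [e3]
        rw [Subgroup.relIndex_comap, Subgroup.map_comap_eq_self_of_surjective hf,
          Subgroup.relIndex_bot_left]
      rw [← Cfsg.Agent.Lib.Lead.relIndex_mul_card_of_le hle, h1]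
      exact Nat.Coprime.mul_left (Cfsg.Agent.Lib.Lead.pPrimeCore_coprime p) hker
    · rw [← Subgroup.map_le_iff_le_comap]
      apply le_pPrimeCore ((Cfsg.Agent.Lib.Lead.pPrimeCore_normal p A).map f hf)
      exact Nat.Coprime.coprime_dvd_left (Subgroup.card_map_dvd _ _)
        (Cfsg.Agent.Lib.Lead.pPrimeCore_coprime p)
  exact layer_eq_bot_of_equiv ((QuotientGroup.quotientMulEquivOfEq hk.symm).trans
    (QuotientGroup.quotientKerEquivOfSurjective _ hsurj)) h

theorem pLayer_eq_bot_of_mulEquiv {A B : Type*} [Group A] [Group B] [Finite A] [Finite B]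
    (p : ℕ) [Fact p.Prime] (e : A ≃* B) (h : pLayer p A = ⊥) : pLayer p B = ⊥ := by
  rw [pLayer_eq_bot_iff] at h ⊢
  apply layer_quotient_eq_bot_of_surjective p e.toMonoidHom e.surjective _ h
  have hk : e.toMonoidHom.ker = ⊥ := (MonoidHom.ker_eq_bot_iff _).mpr e.injective
  rw [hk, Subgroup.card_bot]
  exact Nat.coprime_one_left p

theorem isPConstrained_of_mulEquiv {A B : Type*} [Group A] [Group B] [Finite A] [Finite B]
    (p : ℕ) [Fact p.Prime] (e : A ≃* B) (h : IsPConstrained p A) : IsPConstrained p B :=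
  (isPConstrained_iff_pLayer p).mpr (pLayer_eq_bot_of_mulEquiv p e ((isPConstrained_iff_pLayer p).mp h))

/-- a component of order divisible by `p` survives modulo `O_{p'}` -/
theorem layer_quotient_ne_bot_of_component {B : Type*} [Group B] [Finite B] (p : ℕ) [Fact p.Prime]
    {K : Subgroup B} (hK : IsComponent K) (hp : p ∣ Nat.card K) :
    layer (B ⧸ pPrimeCore p B) ≠ ⊥ := by
  intro hl
  rcases map_component hK (QuotientGroup.mk' (pPrimeCore p B)) (QuotientGroup.mk'_surjective _)
    with h1 | h1
  · have hle : K ≤ pPrimeCore p B := by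
      intro k hk
      apply mem_of_mk_eq_one p
      have h0 := Subgroup.mem_map_of_mem (QuotientGroup.mk' (pPrimeCore p B)) hk
      rw [h1, Subgroup.mem_bot] at h0
      exact h0
    have hc : (Nat.card K).Coprime p := coprime_card_of_le hle (Cfsg.Agent.Lib.Lead.pPrimeCore_coprime p)
    have hpp : p.Prime := Fact.out
    exact (Nat.Prime.coprime_iff_not_dvd hpp).mp hc.symm hp
  · have h2 := le_layer h1
    rw [hl] at h2
    exact ne_bot_of_isQuasisimple h1.2 (le_bot_iff.mp h2)

/-- if `x` lies in a normal `p`-subgroup and `C_Y(x)` is `p`-constrained, so is `Y` -/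
theorem pLayer_eq_bot_of_centralizer {Y : Type*} [Group Y] [Finite Y] (p : ℕ) [Fact p.Prime]
    {T : Subgroup Y} (hTn : T.Normal) (hTp : IsPGroup p T) {x : Y} (hx : x ∈ T)
    (hD : pLayer p ↥(Subgroup.centralizer ({x} : Set Y)) = ⊥) : pLayer p Y = ⊥ := by
  rw [pLayer_eq_bot_iff, eq_bot_iff]
  apply sSup_le
  intro Kb hKb
  exfalso
  have hTb : (T.map (QuotientGroup.mk' (pPrimeCore p Y))).Normal :=
    hTn.map _ (QuotientGroup.mk'_surjective _)
  have hs : Group.IsSolvable (T.map (QuotientGroup.mk' (pPrimeCore p Y))) :=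
    isSolvable_of_isPGroup p (hTp.map _)
  have h1 : T.map (QuotientGroup.mk' (pPrimeCore p Y)) ≤ Subgroup.centralizer (Kb : Set _) :=
    solvable_subnormal_le_centralizer hKb hTb.isSubnormal hs
  have hle : Kb ≤ (Subgroup.centralizer ({x} : Set Y)).map (QuotientGroup.mk' (pPrimeCore p Y)) := by
    intro kb hkb
    obtain ⟨r, rfl⟩ := QuotientGroup.mk'_surjective _ kb
    have hr : QuotientGroup.mk' (pPrimeCore p Y) r ∈ Subgroup.centralizer
        (((Subgroup.zpowers x).map (QuotientGroup.mk' (pPrimeCore p Y)) : Subgroup _) : Set _) := by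
      rw [Subgroup.mem_centralizer_iff]
      rintro _ ⟨z, hz, rfl⟩
      have hzT : QuotientGroup.mk' (pPrimeCore p Y) z ∈
          T.map (QuotientGroup.mk' (pPrimeCore p Y)) :=
        Subgroup.mem_map_of_mem _ ((Subgroup.zpowers_le.mpr hx) hz)
      exact (Subgroup.mem_centralizer_iff.mp (h1 hzT) _ hkb).symm
    obtain ⟨d, hd, hrd⟩ := exists_mul_mem_centralizer p
      (hTp.to_le (Subgroup.zpowers_le.mpr hx)) hr
    refine ⟨r * d, ?_, ?_⟩
    · show r * d ∈ Subgroup.centralizer ({x} : Set Y)
      rw [Subgroup.mem_centralizer_singleton_iff]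
      exact (Subgroup.mem_centralizer_iff.mp hrd x (Subgroup.mem_zpowers x)).symm
    · rw [map_mul, mk_eq_one_of_mem p hd, mul_one]
  obtain ⟨D, hDdef⟩ : ∃ D, D = Subgroup.centralizer ({x} : Set Y) := ⟨_, rfl⟩
  rw [← hDdef] at hle hD
  have hKW : IsComponent (Kb.subgroupOf (D.map (QuotientGroup.mk' (pPrimeCore p Y)))) :=
    isComponent_subgroupOf hKb hle
  have hpK : p ∣ Nat.card (Kb.subgroupOf (D.map (QuotientGroup.mk' (pPrimeCore p Y)))) := by
    rw [Nat.card_congr (Subgroup.subgroupOfEquivOfLe hle).toEquiv]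
    exact p_dvd_card_of_isComponent p (Cfsg.Agent.Lib.Lead.pPrimeCore_quotient p) hKb
  have hWl : layer (↥(D.map (QuotientGroup.mk' (pPrimeCore p Y))) ⧸
      pPrimeCore p ↥(D.map (QuotientGroup.mk' (pPrimeCore p Y)))) = ⊥ := by
    apply layer_quotient_eq_bot_of_surjective p ((QuotientGroup.mk' (pPrimeCore p Y)).subgroupMap D)
      (MonoidHom.subgroupMap_surjective _ _) ?_ ((pLayer_eq_bot_iff p).mp hD)
    have hkle : ((QuotientGroup.mk' (pPrimeCore p Y)).subgroupMap D).ker ≤
        (pPrimeCore p Y).subgroupOf D := by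
      intro d hd
      rw [Subgroup.mem_subgroupOf]
      apply mem_of_mk_eq_one p
      have h0 := MonoidHom.mem_ker.mp hd
      exact congrArg Subtype.val h0
    have hc : (Nat.card ((pPrimeCore p Y).subgroupOf D)).Coprime p := by
      have e : (pPrimeCore p Y).subgroupOf D = (pPrimeCore p Y ⊓ D).subgroupOf D := by
        rw [Subgroup.inf_subgroupOf_right]
      rw [e, Nat.card_congr (Subgroup.subgroupOfEquivOfLe inf_le_right).toEquiv]
      exact coprime_card_of_le inf_le_left (Cfsg.Agent.Lib.Lead.pPrimeCore_coprime p)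
    exact coprime_card_of_le hkle hc
  exact layer_quotient_ne_bot_of_component p hKW hpK hWl

end Cfsg.Agent.Lib.Helper2.Comp
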