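import Mathlib
import Cfsg.Prelude.Def_Local
import Cfsg.Agent.Lib.Helper2.Comp22
import Cfsg.Agent.Lib.Helper2.Comp12
import Cfsg.Agent.Lib.Helper6.NormGrow

set_option autoImplicit false
set_option linter.unusedSectionVars false
set_option linter.style.haveILetI false

/-! `F* = O_p` : normal subgroups, extensions by `p`-groups, isomorphisms, centralizers of
`p`-subgroups -/

namespace Cfsg.Agent.Lib.Helper2.Comp

open Cfsg

theorem gfs_isPGroup_iff {X : Type*} [Group X] [Finite X] (p : ℕ) [Fact p.Prime] :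
    IsPGroup p ↥(generalizedFittingSubgroup X) ↔ generalizedFittingSubgroup X = pCore p X := by
  constructor
  · intro h
    apply le_antisymm
    · exact le_sSup ⟨Cfsg.Agent.Lib.Helper3.generalizedFittingSubgroup_normal X, h⟩
    · exact (pCore_le_fitting p).trans fitting_le_gfs
  · intro h
    rw [h]
    exact Cfsg.Agent.Lib.Lead.pCore_isPGroup' p

theorem gfs_eq_pCore_of_normal {X : Type*} [Group X] [Finite X] (p : ℕ) [Fact p.Prime]
    (N : Subgroup X) [hN : N.Normal] (h : generalizedFittingSubgroup X = pCore p X) :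
    generalizedFittingSubgroup ↥N = pCore p ↥N := by
  rw [← gfs_isPGroup_iff]
  have e := map_gfs_eq (G := X) hN.isSubnormal
  have hp : IsPGroup p ↥((generalizedFittingSubgroup ↥N).map N.subtype) := by
    rw [e, h]
    exact (Cfsg.Agent.Lib.Lead.pCore_isPGroup' p).to_le inf_le_left
  intro g
  obtain ⟨k, hk⟩ := hp ⟨N.subtype g.1, Subgroup.mem_map_of_mem _ g.2⟩
  refine ⟨k, ?_⟩
  have h1 := congrArg Subtype.val hk
  apply Subtype.ext
  apply Subtype.ext
  simpa using h1

theorem gfs_eq_pCore_of_pindex {X : Type*} [Group X] [Finite X] (p : ℕ) [Fact p.Prime]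
    (N : Subgroup X) [hN : N.Normal] (hidx : ∀ x : X, ∃ k : ℕ, x ^ (p ^ k) ∈ N)
    (h : generalizedFittingSubgroup ↥N = pCore p ↥N) :
    generalizedFittingSubgroup X = pCore p X := by
  have hpp : p.Prime := Fact.out
  obtain ⟨hl, hq⟩ := (gfs_eq_pCore_iff' p).mp h
  rw [gfs_eq_pCore_iff']
  constructor
  · rw [eq_bot_iff]
    apply sSup_le
    intro K hK
    exfalso
    have hKN : K ≤ N := by
      have h0 := le_of_pgroup_quot_of_perfect p (K := K) (K₀ := K ⊓ N) inf_le_left ?_ ?_ ?_
      · exact h0.trans inf_le_right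
      · apply le_normalizer_inf Subgroup.le_normalizer
        intro x _
        rw [Subgroup.normalizer_eq_top_iff.mpr hN]
        exact Subgroup.mem_top x
      · intro x hx
        obtain ⟨k, hk⟩ := hidx x
        exact ⟨k, ⟨K.pow_mem hx _, hk⟩⟩
      · rw [perfect_of_isQuasisimple hK.2]
        exact le_sup_left
    have hc := isComponent_subgroupOf hK hKN
    have h2 := le_layer hc
    rw [hl] at h2
    have h3 : K ≤ ⊥ := by
      intro x hx
      have h4 : (⟨x, hKN hx⟩ : N) ∈ K.subgroupOf N := Subgroup.mem_subgroupOf.mpr hx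
      have h5 := h2 h4
      rw [Subgroup.mem_bot] at h5 ⊢
      exact congrArg Subtype.val h5
    exact ne_bot_of_isQuasisimple hK.2 (le_bot_iff.mp h3)
  · intro q hqp hne
    haveI : Fact q.Prime := ⟨hqp⟩
    have hQn := Cfsg.Agent.Lib.Lead.pCore_normal q X
    have hQp : IsPGroup q (pCore q X) := Cfsg.Agent.Lib.Lead.pCore_isPGroup' q
    have hQN : pCore q X ≤ N := by
      intro x hx
      obtain ⟨k, hk⟩ := hidx x
      obtain ⟨j, hj⟩ := (IsPGroup.iff_orderOf.mp hQp) ⟨x, hx⟩
      rw [Subgroup.orderOf_mk] at hj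
      have hcop : (p ^ k).Coprime (orderOf x) := by
        rw [hj]
        exact Nat.Coprime.pow _ _ ((Nat.coprime_primes hpp hqp).mpr (Ne.symm hne))
      obtain ⟨m, hm⟩ := exists_pow_eq_self_of_coprime hcop
      rw [← hm]
      exact N.pow_mem hk m
    have h1 : (pCore q X).subgroupOf N ≤ pCore q ↥N :=
      le_sSup ⟨hQn.subgroupOf N, hQp.comap_subtype⟩
    rw [hq q hqp hne] at h1
    rw [eq_bot_iff]
    intro x hx
    have h4 : (⟨x, hQN hx⟩ : N) ∈ (pCore q X).subgroupOf N := Subgroup.mem_subgroupOf.mpr hx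
    have h2 := h1 h4
    rw [Subgroup.mem_bot] at h2 ⊢
    exact congrArg Subtype.val h2

theorem gfs_eq_pCore_of_mulEquiv {X Y : Type*} [Group X] [Group Y] [Finite X] [Finite Y]
    (p : ℕ) [Fact p.Prime] (e : X ≃* Y) (h : generalizedFittingSubgroup X = pCore p X) :
    generalizedFittingSubgroup Y = pCore p Y := by
  obtain ⟨hl, hq⟩ := (gfs_eq_pCore_iff' p).mp h
  rw [gfs_eq_pCore_iff']
  refine ⟨layer_eq_bot_of_equiv e hl, ?_⟩
  intro q hqp hne
  haveI : Fact q.Prime := ⟨hqp⟩
  have hQn := Cfsg.Agent.Lib.Lead.pCore_normal q Y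
  have hQp : IsPGroup q (pCore q Y) := Cfsg.Agent.Lib.Lead.pCore_isPGroup' q
  have h1 : (pCore q Y).comap e.toMonoidHom ≤ pCore q X :=
    le_sSup ⟨hQn.comap _, hQp.comap_of_injective _ e.injective⟩
  rw [hq q hqp hne] at h1
  rw [eq_bot_iff]
  intro y hy
  have h3 : e.symm y ∈ (pCore q Y).comap e.toMonoidHom := by
    rw [Subgroup.mem_comap]
    simpa using hy
  have h2 := h1 h3
  rw [Subgroup.mem_bot] at h2 ⊢
  have h4 := congrArg e h2
  simpa using h4

/-- one normal step: `V ⊴ U` -/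
theorem gfs_centralizer_step {G : Type*} [Group G] [Finite G] (p : ℕ) [Fact p.Prime]
    {V U : Subgroup G} (hVU : V ≤ U) (hUV : U ≤ Subgroup.normalizer (V : Set G))
    (hU : IsPGroup p U)
    (h : generalizedFittingSubgroup ↥(Subgroup.centralizer (V : Set G)) =
      pCore p ↥(Subgroup.centralizer (V : Set G))) :
    generalizedFittingSubgroup ↥(Subgroup.centralizer (U : Set G)) =
      pCore p ↥(Subgroup.centralizer (U : Set G)) := by
  obtain ⟨H, hH⟩ : ∃ H, H = Subgroup.centralizer (V : Set G) := ⟨_, rfl⟩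
  rw [← hH] at h
  have hUH : U ≤ Subgroup.normalizer (H : Set G) := by
    rw [hH]; exact le_normalizer_centralizer hUV
  obtain ⟨X, hX⟩ : ∃ X, X = H ⊔ U := ⟨_, rfl⟩
  have hHX : H ≤ X := by rw [hX]; exact le_sup_left
  have hUX : U ≤ X := by rw [hX]; exact le_sup_right
  have hXn : X ≤ Subgroup.normalizer (H : Set G) := by
    rw [hX]; exact sup_le Subgroup.le_normalizer hUH
  have hn : (H.subgroupOf X).Normal := (Subgroup.normal_subgroupOf_iff_le_normalizer hHX).mpr hXn
  have h1 : generalizedFittingSubgroup ↥(H.subgroupOf X) = pCore p ↥(H.subgroupOf X) :=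
    gfs_eq_pCore_of_mulEquiv p (Subgroup.subgroupOfEquivOfLe hHX).symm h
  have hidx : ∀ x : ↥X, ∃ k : ℕ, x ^ (p ^ k) ∈ H.subgroupOf X := by
    intro x
    have hx : (x : G) ∈ H ⊔ U := by rw [← hX]; exact x.2
    obtain ⟨n, hn', u, hu, hxe⟩ := Cfsg.Agent.Lib.Lead.mem_sup_of_le_normalizer hUH hx
    have key : ∀ m : ℕ, ∃ n' ∈ H, (x : G) ^ m = n' * u ^ m := by
      intro m
      induction m with
      | zero => exact ⟨1, H.one_mem, by simp⟩
      | succ m ih =>
        obtain ⟨n1, hn1, e1⟩ := ih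
        refine ⟨n1 * (u ^ m * n * (u ^ m)⁻¹),
          H.mul_mem hn1 (conj_mem_of_le_normalizer hUH (U.pow_mem hu m) hn'), ?_⟩
        rw [pow_succ, e1, hxe, pow_succ]
        group
    obtain ⟨k, hk⟩ := hU ⟨u, hu⟩
    have hk' : u ^ (p ^ k) = 1 := by
      have := congrArg Subtype.val hk
      simpa using this
    obtain ⟨n', hn2, e2⟩ := key (p ^ k)
    refine ⟨k, ?_⟩
    rw [Subgroup.mem_subgroupOf]
    show ((x ^ (p ^ k) : ↥X) : G) ∈ H
    rw [Subgroup.coe_pow, e2, hk', mul_one]
    exact hn2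
  have h2 : generalizedFittingSubgroup ↥X = pCore p ↥X :=
    gfs_eq_pCore_of_pindex p (H.subgroupOf X) hidx h1
  have hCU : Subgroup.centralizer (U : Set G) ≤ H := by
    rw [hH]; exact Subgroup.centralizer_le hVU
  obtain ⟨N, hN⟩ : ∃ N, N = U ⊔ Subgroup.centralizer (U : Set G) := ⟨_, rfl⟩
  have hCN : Subgroup.centralizer (U : Set G) ≤ N := by rw [hN]; exact le_sup_right
  have hUN : U ≤ N := by rw [hN]; exact le_sup_left
  have h3 : generalizedFittingSubgroup ↥N = pCore p ↥N := by
    apply gfs_eq_pCore_of_local p hU hUX (hCU.trans hHX) hUN ?_ hCN h2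
    rw [hN]
    exact sup_le Subgroup.le_normalizer (Subgroup.centralizer_le_normalizer _)
  have hn2 : ((Subgroup.centralizer (U : Set G)).subgroupOf N).Normal := by
    apply (Subgroup.normal_subgroupOf_iff_le_normalizer hCN).mpr
    rw [hN]
    exact sup_le (le_normalizer_centralizer Subgroup.le_normalizer) Subgroup.le_normalizer
  have h4 := gfs_eq_pCore_of_normal p ((Subgroup.centralizer (U : Set G)).subgroupOf N) h3
  exact gfs_eq_pCore_of_mulEquiv p (Subgroup.subgroupOfEquivOfLe hCN) h4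

theorem gfs_centralizer_of_le {G : Type*} [Group G] [Finite G] (p : ℕ) [Fact p.Prime] :
    ∀ (n : ℕ) (V U : Subgroup G), V ≤ U → IsPGroup p U → Nat.card U ≤ Nat.card V + n →
      generalizedFittingSubgroup ↥(Subgroup.centralizer (V : Set G)) =
        pCore p ↥(Subgroup.centralizer (V : Set G)) →
      generalizedFittingSubgroup ↥(Subgroup.centralizer (U : Set G)) =
        pCore p ↥(Subgroup.centralizer (U : Set G)) := by
  intro n
  induction n with
  | zero =>
    intro V U hVU hU hc h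
    have he : V = U := Subgroup.eq_of_le_of_card_ge hVU (by simpa using hc)
    rw [← he]; exact h
  | succ n ih =>
    intro V U hVU hU hc h
    by_cases hne : V = U
    · rw [← hne]; exact h
    · have hlt : V < U := lt_of_le_of_ne hVU hne
      obtain ⟨x, hxU, hxN, hxV⟩ := Cfsg.Agent.Lib.Helper6.exists_mem_normalizer_not_mem hU hlt
      obtain ⟨U1, hU1⟩ : ∃ U1, U1 = U ⊓ Subgroup.normalizer (V : Set G) := ⟨_, rfl⟩
      have hVU1 : V ≤ U1 := by rw [hU1]; exact le_inf hVU Subgroup.le_normalizer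
      have hxU1 : x ∈ U1 := by rw [hU1]; exact ⟨hxU, hxN⟩
      have hlt1 : V < U1 := lt_of_le_of_ne hVU1 (fun he => hxV (by rw [he]; exact hxU1))
      have hU1U : U1 ≤ U := by rw [hU1]; exact inf_le_left
      have hU1N : U1 ≤ Subgroup.normalizer (V : Set G) := by rw [hU1]; exact inf_le_right
      have h1 := gfs_centralizer_step p hVU1 hU1N (hU.to_le hU1U) h
      have hcard := Cfsg.Agent.Lib.Helper6.card_lt_card_of_lt hlt1
      exact ih U1 U hU1U hU (by omega) h1

end Cfsg.Agent.Lib.Helper2.Comp
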