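import Mathlib
import Cfsg.Prelude.Def_Local
import Cfsg.Agent.Lib.Helper2.Comp23
import Cfsg.Agent.Lib.Helper8.Syl

set_option autoImplicit false
set_option linter.unusedSectionVars false
set_option linter.style.haveILetI false

/-! Sylow subgroups of subnormal subgroups -/

namespace Cfsg.Agent.Lib.Helper2.Comp

open Cfsg

/-- `S ∩ H` is a Sylow `p`-subgroup of the subnormal subgroup `H` -/
theorem sylIn_inf_of_subnormal {G : Type*} [Group G] [Finite G] {p : ℕ} [Fact p.Prime]
    (S : Sylow p G) {H : Subgroup G} (hH : H.IsSubnormal) :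
    Cfsg.Agent.Lib.Helper8.SylIn p ((S : Subgroup G) ⊓ H) H := by
  induction hH with
  | top => rw [inf_top_eq]; exact Cfsg.Agent.Lib.Helper8.sylIn_top S
  | step H K h_le hSubn hN ih =>
    have hKn : K ≤ Subgroup.normalizer (H : Set G) :=
      (Subgroup.normal_subgroupOf_iff_le_normalizer h_le).mp hN
    have h1 := ih.inf_of_normal h_le hKn
    rwa [inf_assoc, inf_eq_right.mpr h_le] at h1

/-- `S ∩ H` as a Sylow subgroup of the subnormal subgroup `H` -/
theorem exists_sylow_eq_inf_of_subnormal {G : Type*} [Group G] [Finite G] {p : ℕ} [Fact p.Prime]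
    (S : Sylow p G) {H : Subgroup G} (hH : H.IsSubnormal) :
    ∃ R : Sylow p H, (R : Subgroup H) = (S : Subgroup G).subgroupOf H := by
  obtain ⟨R, hR⟩ := (Cfsg.Agent.Lib.Helper8.sylIn_iff inf_le_right).mp (sylIn_inf_of_subnormal S hH)
  refine ⟨R, ?_⟩
  rw [hR, Subgroup.inf_subgroupOf_right]

end Cfsg.Agent.Lib.Helper2.Comp
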