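import Mathlib
import Cfsg.Prelude.Def_Local
import Cfsg.Agent.Lib.Helper2.Exp6
import Cfsg.Agent.Lib.Helper2.PLen4
import Cfsg.Agent.Lib.Helper7.PDeg
import Cfsg.Agent.Lib.Helper4.PReduced
import Cfsg.Agent.Lib.Lead.Char8

/-!
# Groups of exponent dividing 6: `O_3` has index prime to `3` when `O_{3'} = 1`
-/

namespace Cfsg.Agent.Lib.Helper2.Exp6

open Cfsg Cfsg.Agent.Lib

universe u

theorem two_three_smooth (n : ℕ) (hn : n ≠ 0)
    (h : ∀ q : ℕ, q.Prime → q ∣ n → q = 2 ∨ q = 3) : ∃ a b : ℕ, n = 2 ^ a * 3 ^ b := by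
  refine ⟨n.factorization 2, n.factorization 3, ?_⟩
  have h1 := Nat.prod_factorization_pow_eq_self hn
  have hsub : n.factorization.support ⊆ ({2, 3} : Finset ℕ) := by
    intro q hq
    rw [Nat.support_factorization, Nat.mem_primeFactors] at hq
    rcases h q hq.1 hq.2.1 with h2 | h2
    · rw [h2]; simp
    · rw [h2]; simp
  rw [Finsupp.prod_of_support_subset _ hsub _ (fun _ _ => pow_zero _),
    Finset.prod_pair (by norm_num)] at h1
  exact h1.symm

theorem solvable_of_exp6 {G : Type*} [Group G] [Finite G] (h : ∀ x : G, x ^ 6 = 1) :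
    Group.IsSolvable G := by
  obtain ⟨a, b, hab⟩ := two_three_smooth (Nat.card G) Nat.card_pos.ne' (by
    intro q hq hdvd
    haveI := Fact.mk hq
    obtain ⟨x, hx⟩ := exists_prime_orderOf_dvd_card' q hdvd
    have h6 : q ∣ 2 * 3 := by rw [← hx]; exact orderOf_dvd_of_pow_eq_one (h x)
    rcases (Nat.Prime.dvd_mul hq).mp h6 with h2 | h3
    · left; exact (Nat.prime_dvd_prime_iff_eq hq Nat.prime_two).mp h2
    · right; exact (Nat.prime_dvd_prime_iff_eq hq Nat.prime_three).mp h3)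
  exact Lead.burnside_paqb 2 3 a b Nat.prime_two Nat.prime_three hab

theorem sq_eq_one_of_two_pow {A : Type*} [Group A] (y : A) (k : ℕ) (h1 : y ^ 2 ^ k = 1)
    (h6 : y ^ 6 = 1) : y ^ 2 = 1 := by
  have ho1 : orderOf y ∣ 2 ^ k := orderOf_dvd_of_pow_eq_one h1
  have ho2 : orderOf y ∣ 2 * 3 := orderOf_dvd_of_pow_eq_one h6
  have hc : (orderOf y).Coprime 3 :=
    Nat.Coprime.coprime_dvd_left ho1 (Nat.Coprime.pow_left k (by norm_num))
  exact orderOf_dvd_iff_pow_eq_one.mp (hc.dvd_of_dvd_mul_right ho2)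

theorem comm_of_sq {A : Type*} [Group A] (x y : A) (hx : x ^ 2 = 1) (hy : y ^ 2 = 1)
    (hxy : (x * y) ^ 2 = 1) : x * y = y * x := by
  have e1 : x⁻¹ = x := inv_eq_of_mul_eq_one_right (by rw [← pow_two]; exact hx)
  have e2 : y⁻¹ = y := inv_eq_of_mul_eq_one_right (by rw [← pow_two]; exact hy)
  have e3 : (x * y)⁻¹ = x * y := inv_eq_of_mul_eq_one_right (by rw [← pow_two]; exact hxy)
  rw [mul_inv_rev, e1, e2] at e3
  exact e3.symm

theorem pow_three_eq_one_of_mem {H : Type*} [Group H] [Finite H] (hexp : ∀ h : H, h ^ 6 = 1)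
    (P : Subgroup H) [P.Normal] (hPodd : Odd (Nat.card P)) (t x : H) (ht : t ^ 3 = 1)
    (hx : x ∈ P) : (t * x) ^ 3 = 1 := by
  have hmem : (t * x) ^ 3 ∈ P := by
    rw [← QuotientGroup.eq_one_iff (N := P)]
    have h1 : ((x : H) : H ⧸ P) = 1 := (QuotientGroup.eq_one_iff x).mpr hx
    rw [QuotientGroup.mk_pow, QuotientGroup.mk_mul, h1, mul_one, ← QuotientGroup.mk_pow, ht]
    rfl
  have h2 : ((t * x) ^ 3) ^ 2 = 1 := by rw [← pow_mul]; exact hexp _
  have h3 := eq_one_of_sq hPodd (⟨_, hmem⟩ : P) (Subtype.ext h2)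
  exact congrArg Subtype.val h3

theorem conj3 {H : Type*} [Group H] (t x : H) (ht : t ^ 3 = 1) (htx : (t * x) ^ 3 = 1) :
    t * x * t⁻¹ * (t * (t * x * t⁻¹) * t⁻¹) * x = 1 := by
  have h1 : t⁻¹ * t⁻¹ = t := by
    have : t * t * t = 1 := by rw [← ht, pow_succ, pow_succ, pow_one]
    calc t⁻¹ * t⁻¹ = t⁻¹ * t⁻¹ * (t * t * t) := by rw [this, mul_one]
      _ = t := by group
  calc t * x * t⁻¹ * (t * (t * x * t⁻¹) * t⁻¹) * x = t * x * t * x * (t⁻¹ * t⁻¹) * x := by group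
    _ = (t * x) ^ 3 := by rw [h1, pow_succ, pow_succ, pow_one]; group
    _ = 1 := htx

theorem e_rel {H : Type*} [Group H] (u w s x : H) (htt : (u * s) * (u * s) = w * (s * s))
    (h : (u * s) * x * (u * s)⁻¹ * ((u * s) * ((u * s) * x * (u * s)⁻¹) * (u * s)⁻¹) * x = 1) :
    u * (s * x * s⁻¹) * u⁻¹ * (w * (s * (s * x * s⁻¹) * s⁻¹) * w⁻¹) * x = 1 := by
  have e : (u * s) * ((u * s) * x * (u * s)⁻¹) * (u * s)⁻¹ =
      ((u * s) * (u * s)) * x * ((u * s) * (u * s))⁻¹ := by group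
  rw [e, htt] at h
  rw [← h]; group

theorem cube_us {H : Type*} [Group H] (u s : H) :
    (u * s) ^ 3 = u * (s * u * s⁻¹) * (s * (s * u * s⁻¹) * s⁻¹) * s ^ 3 := by
  simp only [pow_succ, pow_zero, one_mul]; group

theorem sq_us {H : Type*} [Group H] (u s : H) :
    (u * s) * (u * s) = u * (s * u * s⁻¹) * (s * s) := by group

theorem index_pCore_coprime {H : Type u} [Group H] [Finite H] (hexp : ∀ h : H, h ^ 6 = 1)
    (hred : Cfsg.pPrimeCore 3 H = ⊥) : (Cfsg.pCore 3 H).index.Coprime 3 := by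
  haveI : Fact (Nat.Prime 3) := ⟨Nat.prime_three⟩
  haveI : Fact (Nat.Prime 2) := ⟨Nat.prime_two⟩
  have hsolv : Group.IsSolvable H := solvable_of_exp6 hexp
  obtain ⟨P, hPdef⟩ : ∃ P : Subgroup H, P = Cfsg.pCore 3 H := ⟨_, rfl⟩
  rw [← hPdef]
  haveI hPn : P.Normal := hPdef ▸ Helper4.pCore_normal 3 H
  have hPp : IsPGroup 3 P := hPdef ▸ Helper4.pCore_isPGroup 3 H
  have hC : Subgroup.centralizer (P : Set H) ≤ P := by
    rw [hPdef]
    exact Helper3.centralizer_pCore_le_of_isPSolvable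
      (Helper7.PDeg.isPSolvable_of_isSolvable 3 _ H rfl hsolv) hred
  have hPodd : Odd (Nat.card P) := by
    obtain ⟨k, hk⟩ := IsPGroup.iff_card.mp hPp
    rw [hk]; exact Odd.pow (by decide)
  by_contra hnc
  have h3 : 3 ∣ P.index := by
    by_contra h; exact hnc ((Nat.Prime.coprime_iff_not_dvd Nat.prime_three).mpr h).symm
  have hX3 : Cfsg.pCore 3 (H ⧸ P) = ⊥ := by
    apply Helper4.pCore_quot_bot_of_le
    intro D hD hDp
    rw [hPdef]
    apply Helper4.le_pCore hD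
    rintro ⟨d, hd⟩
    obtain ⟨k, hk⟩ := hDp d hd
    obtain ⟨j, hj⟩ := hPp ⟨_, hk⟩
    refine ⟨k + j, ?_⟩
    apply Subtype.ext
    have : (d ^ 3 ^ k) ^ 3 ^ j = 1 := congrArg Subtype.val hj
    show d ^ 3 ^ (k + j) = 1
    rw [pow_add, pow_mul]; exact this
  have hXexp : ∀ y : H ⧸ P, y ^ 6 = 1 := by
    intro y
    obtain ⟨h, rfl⟩ := QuotientGroup.mk_surjective y
    rw [← QuotientGroup.mk_pow, hexp]; rfl
  have hX2 : Cfsg.pPrimeCore 2 (H ⧸ P) = ⊥ := by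
    rw [eq_bot_iff, ← hX3]
    apply Helper4.le_pCore (Lead.pPrimeCore_normal 2 _)
    rintro ⟨y, hy⟩
    refine ⟨1, ?_⟩
    apply Subtype.ext
    show y ^ 3 ^ 1 = 1
    rw [pow_one]
    have ho1 : orderOf y ∣ 2 * 3 := orderOf_dvd_of_pow_eq_one (hXexp y)
    have ho2 : orderOf y ∣ Nat.card (Cfsg.pPrimeCore 2 (H ⧸ P)) := by
      have := orderOf_dvd_natCard (⟨y, hy⟩ : Cfsg.pPrimeCore 2 (H ⧸ P))
      rwa [Subgroup.orderOf_mk] at this
    have hc : (orderOf y).Coprime 2 :=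
      Nat.Coprime.coprime_dvd_left ho2 (Lead.pPrimeCore_coprime 2)
    exact orderOf_dvd_iff_pow_eq_one.mp (hc.dvd_of_dvd_mul_left ho1)
  have hXsolv : Group.IsSolvable (H ⧸ P) := inferInstance
  obtain ⟨F, hFdef⟩ : ∃ F : Subgroup (H ⧸ P), F = Cfsg.pCore 2 (H ⧸ P) := ⟨_, rfl⟩
  haveI hFn : F.Normal := hFdef ▸ Helper4.pCore_normal 2 _
  have hFp : IsPGroup 2 F := hFdef ▸ Helper4.pCore_isPGroup 2 _
  have hCX : Subgroup.centralizer (F : Set (H ⧸ P)) ≤ F := by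
    rw [hFdef]
    exact Helper3.centralizer_pCore_le_of_isPSolvable
      (Helper7.PDeg.isPSolvable_of_isSolvable 2 _ _ rfl hXsolv) hX2
  have hFsq : ∀ y ∈ F, y ^ 2 = 1 := by
    intro y hy
    obtain ⟨k, hk⟩ := hFp ⟨y, hy⟩
    exact sq_eq_one_of_two_pow y k (congrArg Subtype.val hk) (hXexp y)
  have h3' : 3 ∣ Nat.card (H ⧸ P) := by rwa [← Subgroup.index_eq_card]
  obtain ⟨sb, hsb⟩ := exists_prime_orderOf_dvd_card' 3 h3'
  have hsb3 : sb ^ 3 = 1 := by rw [← hsb]; exact pow_orderOf_eq_one sb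
  have hsb1 : sb ≠ 1 := by
    intro h; rw [h, orderOf_one] at hsb; norm_num at hsb
  have hsbF : sb ∉ F := by
    intro h
    have h2 := hFsq sb h
    apply hsb1
    have h4 := hsb3
    rw [pow_succ, h2, one_mul] at h4
    exact h4
  have hsbC : sb ∉ Subgroup.centralizer (F : Set (H ⧸ P)) := fun h => hsbF (hCX h)
  rw [Subgroup.mem_centralizer_iff] at hsbC
  push_neg at hsbC
  obtain ⟨qb, hqbF, hqb⟩ := hsbC
  -- a Sylow 2-subgroup of the preimage of `F`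
  haveI hMn : (F.comap (QuotientGroup.mk' P)).Normal := hFn.comap _
  obtain ⟨P2⟩ : Nonempty (Sylow 2 ↥(F.comap (QuotientGroup.mk' P))) := inferInstance
  obtain ⟨Q, hQdef⟩ : ∃ Q : Subgroup H,
      Q = (P2 : Subgroup ↥(F.comap (QuotientGroup.mk' P))).map
        (F.comap (QuotientGroup.mk' P)).subtype := ⟨_, rfl⟩
  have hfrat : Subgroup.normalizer (Q : Set H) ⊔ F.comap (QuotientGroup.mk' P) = ⊤ := by
    rw [hQdef]; exact Sylow.normalizer_sup_eq_top P2
  have hQp : IsPGroup 2 Q := by rw [hQdef]; exact P2.2.map _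
  have hQsq : ∀ t ∈ Q, t ^ 2 = 1 := by
    intro t ht
    obtain ⟨k, hk⟩ := hQp ⟨t, ht⟩
    exact sq_eq_one_of_two_pow t k (congrArg Subtype.val hk) (hexp t)
  have hQcomm : ∀ t₁ ∈ Q, ∀ t₂ ∈ Q, t₁ * t₂ = t₂ * t₁ := fun t₁ h₁ t₂ h₂ =>
    comm_of_sq t₁ t₂ (hQsq t₁ h₁) (hQsq t₂ h₂) (hQsq _ (Q.mul_mem h₁ h₂))
  have hQF : ∀ f ∈ F, ∃ t ∈ Q, QuotientGroup.mk' P t = f := by
    intro f hf
    have hφ : Function.Surjective ((QuotientGroup.mk' P).subgroupComap F) :=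
      MonoidHom.subgroupComap_surjective_of_surjective _ _ (QuotientGroup.mk'_surjective P)
    have hcard : Nat.card ((P2.mapSurjective hφ : Sylow 2 ↥F) : Subgroup ↥F) = Nat.card F := by
      rw [Sylow.card_eq_multiplicity]
      obtain ⟨k, hk⟩ := IsPGroup.iff_card.mp hFp
      rw [hk, Nat.Prime.factorization_pow Nat.prime_two]
      simp
    have htop := (Subgroup.card_eq_iff_eq_top _).mp hcard
    have hmem : (⟨f, hf⟩ : F) ∈ ((P2.mapSurjective hφ : Sylow 2 ↥F) : Subgroup ↥F) := by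
      rw [htop]; exact Subgroup.mem_top _
    rw [Sylow.coe_mapSurjective] at hmem
    obtain ⟨m, hm, hmf⟩ := hmem
    refine ⟨(m : H), ?_, congrArg Subtype.val hmf⟩
    rw [hQdef]
    exact ⟨m, hm, rfl⟩
  obtain ⟨s0, hs0⟩ := QuotientGroup.mk'_surjective P sb
  have hs0top : s0 ∈ Subgroup.normalizer (Q : Set H) ⊔ F.comap (QuotientGroup.mk' P) := by
    rw [hfrat]; exact Subgroup.mem_top s0
  obtain ⟨n, hn, m, hm, hnm⟩ := Subgroup.mem_sup_of_normal_right.mp hs0top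
  have hmF : QuotientGroup.mk' P m ∈ F := hm
  obtain ⟨t, ht, htm⟩ := hQF _ hmF
  obtain ⟨s, hsdef⟩ : ∃ s : H, s = n * t := ⟨_, rfl⟩
  have hsN : s ∈ Subgroup.normalizer (Q : Set H) := by
    rw [hsdef]; exact Subgroup.mul_mem _ hn (Subgroup.le_normalizer ht)
  have hsmk : QuotientGroup.mk' P s = sb := by
    rw [hsdef, map_mul, htm, ← map_mul, hnm, hs0]
  have hs3 : s ^ 3 = 1 := by
    have hmem : s ^ 3 ∈ P := by
      rw [← QuotientGroup.eq_one_iff (N := P)]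
      have : ((s ^ 3 : H) : H ⧸ P) = (QuotientGroup.mk' P s) ^ 3 := rfl
      rw [this, hsmk, hsb3]
    have h2 : (s ^ 3) ^ 2 = 1 := by rw [← pow_mul]; exact hexp _
    exact congrArg Subtype.val (eq_one_of_sq hPodd (⟨_, hmem⟩ : P) (Subtype.ext h2))
  have hconj : ∀ y ∈ Q, s * y * s⁻¹ ∈ Q := fun y hy =>
    (Subgroup.mem_normalizer_iff.mp hsN y).mp hy
  obtain ⟨q, hq, hqmk⟩ := hQF qb hqbF
  obtain ⟨q1, hq1⟩ : ∃ q1 : H, q1 = s * q * s⁻¹ := ⟨_, rfl⟩
  obtain ⟨q2, hq2⟩ : ∃ q2 : H, q2 = s * q1 * s⁻¹ := ⟨_, rfl⟩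
  have hq1Q : q1 ∈ Q := hq1 ▸ hconj q hq
  have hq2Q : q2 ∈ Q := hq2 ▸ hconj q1 hq1Q
  have hq3 : s * q2 * s⁻¹ = q := by
    rw [hq2, hq1]
    have : s * (s * (s * q * s⁻¹) * s⁻¹) * s⁻¹ = s ^ 3 * q * (s ^ 3)⁻¹ := by
      simp only [pow_succ, pow_zero, one_mul]; group
    rw [this, hs3]; simp
  have hq1ne : q1 ≠ q := by
    intro h
    apply hqb
    have h1 : QuotientGroup.mk' P (s * q * s⁻¹) = QuotientGroup.mk' P q := by rw [← hq1, h]
    rw [map_mul, map_mul, map_inv, hsmk, hqmk] at h1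
    calc qb * sb = (sb * qb * sb⁻¹) * sb := by rw [h1]
      _ = sb * qb := by group
  have sqq : q * q = 1 := by rw [← pow_two]; exact hQsq q hq
  have sqq1 : q1 * q1 = 1 := by rw [← pow_two]; exact hQsq q1 hq1Q
  have sqq2 : q2 * q2 = 1 := by rw [← pow_two]; exact hQsq q2 hq2Q
  obtain ⟨a, hadef⟩ : ∃ a : H, a = q * q1 := ⟨_, rfl⟩
  obtain ⟨b, hbdef⟩ : ∃ b : H, b = q1 * q2 := ⟨_, rfl⟩
  obtain ⟨c, hcdef⟩ : ∃ c : H, c = q2 * q := ⟨_, rfl⟩
  have haQ : a ∈ Q := hadef ▸ Q.mul_mem hq hq1Q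
  have hbQ : b ∈ Q := hbdef ▸ Q.mul_mem hq1Q hq2Q
  have hcQ : c ∈ Q := hcdef ▸ Q.mul_mem hq2Q hq
  have ha2 : a * a = 1 := by rw [← pow_two]; exact hQsq a haQ
  have hb2 : b * b = 1 := by rw [← pow_two]; exact hQsq b hbQ
  have hc2 : c * c = 1 := by rw [← pow_two]; exact hQsq c hcQ
  have hsa : s * a * s⁻¹ = b := by
    rw [hadef, hbdef, hq2, hq1]; group
  have hsb' : s * b * s⁻¹ = c := by
    have : s * (q1 * q2) * s⁻¹ = (s * q1 * s⁻¹) * (s * q2 * s⁻¹) := by group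
    rw [hbdef, hcdef, this, hq3, ← hq2]
  have hsc : s * c * s⁻¹ = a := by
    have : s * (q2 * q) * s⁻¹ = (s * q2 * s⁻¹) * (s * q * s⁻¹) := by group
    rw [hcdef, hadef, this, hq3, ← hq1]
  have hab : a * b = c := by
    calc a * b = q * (q1 * q1) * q2 := by rw [hadef, hbdef]; group
      _ = q * q2 := by rw [sqq1, mul_one]
      _ = q2 * q := hQcomm q hq q2 hq2Q
      _ = c := hcdef.symm
  have hba : b * a = a * b := hQcomm b hbQ a haQ
  have hac : a * c = b := by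
    rw [← hab, ← mul_assoc, ha2, one_mul]
  have hbc : b * c = a := by
    rw [← hab, ← mul_assoc, hba, mul_assoc, hb2, mul_one]
  have hca : c * a = b := by
    rw [← hab, mul_assoc, hba, ← mul_assoc, ha2, one_mul]
  have ha1 : a ≠ 1 := by
    intro h
    apply hq1ne
    have : q * q1 = q * q := by rw [← hadef, h, sqq]
    exact mul_left_cancel this
  -- the conjugation homomorphisms on `P`
  obtain ⟨κ, hκ⟩ : ∃ κ : H → (P →* P), ∀ (h : H) (x : P), ((κ h x : P) : H) = h * x * h⁻¹ :=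
    ⟨fun h => (MulAut.conjNormal h : MulAut P).toMonoidHom, fun h x => rfl⟩
  have hcube : ∀ u : H, u * (s * u * s⁻¹) * (s * (s * u * s⁻¹) * s⁻¹) = 1 → (u * s) ^ 3 = 1 := by
    intro u hu
    rw [cube_us, hu, hs3, one_mul]
  have has3 : (a * s) ^ 3 = 1 := by
    apply hcube
    rw [hsa, hsb', hab, hc2]
  have hbs3 : (b * s) ^ 3 = 1 := by
    apply hcube
    rw [hsb', hsc, hbc, ha2]
  have hcs3 : (c * s) ^ 3 = 1 := by
    apply hcube
    rw [hsc, hsa, hca, hb2]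
  have hfix := a4_trivial (Nat.card P) P rfl hPodd (κ a) (κ b) (κ c) (κ s)
    (fun x => by
      apply Subtype.ext
      rw [hκ, hκ]
      have : a * (a * (x : H) * a⁻¹) * a⁻¹ = (a * a) * x * (a * a)⁻¹ := by group
      rw [this, ha2]; simp)
    (fun x => by
      apply Subtype.ext
      rw [hκ, hκ, hκ]
      have : a * (b * (x : H) * b⁻¹) * a⁻¹ = (a * b) * x * (a * b)⁻¹ := by group
      rw [this, hab])
    (fun x => by
      apply Subtype.ext
      rw [hκ, hκ, hκ]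
      have : a * (c * (x : H) * c⁻¹) * a⁻¹ = (a * c) * x * (a * c)⁻¹ := by group
      rw [this, hac])
    (fun x => by
      apply Subtype.ext
      show ((κ s x : P) : H) * ((κ s (κ s x) : P) : H) * (x : H) = 1
      rw [hκ, hκ, hκ]
      exact conj3 s x hs3 (pow_three_eq_one_of_mem hexp P hPodd s x hs3 x.2))
    (fun x => by
      apply Subtype.ext
      show ((κ a (κ s x) : P) : H) * ((κ c (κ s (κ s x)) : P) : H) * (x : H) = 1
      rw [hκ, hκ, hκ, hκ, hκ]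
      apply e_rel a c s x (by rw [sq_us, hsa, hab])
      exact conj3 (a * s) x has3 (pow_three_eq_one_of_mem hexp P hPodd (a * s) x has3 x.2))
    (fun x => by
      apply Subtype.ext
      show ((κ b (κ s x) : P) : H) * ((κ a (κ s (κ s x)) : P) : H) * (x : H) = 1
      rw [hκ, hκ, hκ, hκ, hκ]
      apply e_rel b a s x (by rw [sq_us, hsb', hbc])
      exact conj3 (b * s) x hbs3 (pow_three_eq_one_of_mem hexp P hPodd (b * s) x hbs3 x.2))
    (fun x => by
      apply Subtype.ext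
      show ((κ c (κ s x) : P) : H) * ((κ b (κ s (κ s x)) : P) : H) * (x : H) = 1
      rw [hκ, hκ, hκ, hκ, hκ]
      apply e_rel c b s x (by rw [sq_us, hsc, hca])
      exact conj3 (c * s) x hcs3 (pow_three_eq_one_of_mem hexp P hPodd (c * s) x hcs3 x.2))
  have haC : a ∈ Subgroup.centralizer (P : Set H) := by
    rw [Subgroup.mem_centralizer_iff]
    intro h hh
    have h1 : a * h * a⁻¹ = h := by
      have := congrArg Subtype.val (hfix ⟨h, hh⟩)
      rw [hκ] at this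
      exact this
    calc h * a = (a * h * a⁻¹) * a := by rw [h1]
      _ = a * h := by group
  have haP : a ∈ P := hC haC
  have ha2' : a ^ 2 = 1 := by rw [pow_two]; exact ha2
  exact ha1 (congrArg Subtype.val (eq_one_of_sq hPodd (⟨a, haP⟩ : P) (Subtype.ext ha2')))

end Cfsg.Agent.Lib.Helper2.Exp6
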