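import Mathlib
import Cfsg.Agent.Lib.Helper2.Basic

/-!
# Fixed-point-free automorphisms of prime order: basic facts and the Frobenius action lemma
(helper2)
-/

set_option autoImplicit false
open scoped Pointwise IsMulCommutative

namespace Cfsg.Agent.Lib.Helper2.Fpf

universe u

variable {G : Type u} [Group G]

theorem iter_fixed_one (φ : G →* G) (hφ : MonoidHom.FixedPointFree φ) {p : ℕ} (hp : p.Prime)
    (hp1 : ∀ g, φ^[p] g = g) {k : ℕ} (hk0 : 0 < k) (hkp : k < p) (x : G) (hx : φ^[k] x = x) :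
    x = 1 := by
  have hcop : Nat.Coprime k p :=
    ((Nat.Prime.coprime_iff_not_dvd hp).2 (Nat.not_dvd_of_pos_of_lt hk0 hkp)).symm
  obtain ⟨m, -, hm⟩ := Nat.exists_mul_mod_eq_one_of_coprime hcop hp.one_lt
  have h1 : φ^[k * m] x = x := by
    rw [Function.iterate_mul]
    exact Function.iterate_fixed hx m
  have h2 : k * m = 1 + p * (k * m / p) := by
    have := Nat.div_add_mod (k * m) p
    omega
  rw [h2, Function.iterate_add_apply] at h1
  have h3 : φ^[p * (k * m / p)] x = x := by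
    rw [Function.iterate_mul]
    exact Function.iterate_fixed (hp1 x) _
  rw [h3, Function.iterate_one] at h1
  exact hφ x h1

theorem bijective_of_iter (φ : G →* G) [Finite G] {p : ℕ} (hp : p.Prime)
    (hp1 : ∀ g, φ^[p] g = g) : Function.Bijective φ := by
  have hinj : Function.Injective φ := by
    intro x y hxy
    have h1 : ∀ z, φ^[p - 1] (φ z) = z := by
      intro z
      rw [← Function.iterate_succ_apply, Nat.succ_eq_add_one, Nat.sub_add_cancel hp.pos]
      exact hp1 z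
    rw [← h1 x, ← h1 y, hxy]
  exact ⟨hinj, Finite.injective_iff_surjective.mp hinj⟩

theorem exists_comm_form [Finite G] (φ : G →* G) (hφ : MonoidHom.FixedPointFree φ) (g : G) :
    ∃ c : G, g = (φ c)⁻¹ * c := by
  obtain ⟨x, hx⟩ := hφ.commutatorMap_surjective g⁻¹
  refine ⟨x⁻¹, ?_⟩
  rw [MonoidHom.commutatorMap_apply] at hx
  have h1 : g = (x / φ x)⁻¹ := by rw [hx, inv_inv]
  rw [h1, map_inv, inv_inv, inv_div, div_eq_mul_inv]

theorem map_eq_of_inv [Finite G] (φ : G →* G) (hinj : Function.Injective φ) (H : Subgroup G)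
    (hH : ∀ x ∈ H, φ x ∈ H) : H.map φ = H := by
  apply Subgroup.eq_of_le_of_card_ge
  · rintro _ ⟨y, hy, rfl⟩; exact hH y hy
  · rw [Subgroup.card_map_of_injective hinj]

theorem inv_of_map_eq (φ : G →* G) (H : Subgroup G) (hH : H.map φ = H) :
    ∀ x ∈ H, φ x ∈ H := by
  intro x hx
  rw [← hH]; exact Subgroup.mem_map_of_mem _ hx

theorem exists_invariant_sylow [Finite G] (φ : G →* G) (hφ : MonoidHom.FixedPointFree φ)
    (hbij : Function.Bijective φ) (q : ℕ) [Fact q.Prime] :
    ∃ Q : Sylow q G, (Q : Subgroup G).map φ = Q := by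
  obtain ⟨P⟩ : Nonempty (Sylow q G) := inferInstance
  obtain ⟨g, hg⟩ := MulAction.exists_smul_eq G P (P.mapSurjective hbij.2)
  obtain ⟨c, hc⟩ := exists_comm_form φ hφ g
  refine ⟨c • P, map_eq_of_inv φ hbij.1 _ ?_⟩
  intro y hy
  rw [Cfsg.Agent.Lib.Helper2.mem_smul_sylow] at hy
  have h1 : φ (c⁻¹ * y * c) ∈ ((P.mapSurjective hbij.2 : Sylow q G) : Subgroup G) := by
    rw [Sylow.coe_mapSurjective]; exact Subgroup.mem_map_of_mem _ hy
  rw [← hg, Cfsg.Agent.Lib.Helper2.mem_smul_sylow] at h1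
  rw [Cfsg.Agent.Lib.Helper2.mem_smul_sylow]
  have e : c⁻¹ * φ y * c = g⁻¹ * φ (c⁻¹ * y * c) * g := by
    rw [hc]; simp only [map_mul, map_inv]; group
  rw [e]; exact h1

/-- restriction of `φ` to an invariant subgroup -/
def res (φ : G →* G) (H : Subgroup G) (hH : ∀ x ∈ H, φ x ∈ H) : H →* H :=
  (φ.comp H.subtype).codRestrict H (fun x => hH x x.2)

theorem res_coe (φ : G →* G) (H : Subgroup G) (hH : ∀ x ∈ H, φ x ∈ H) (x : H) :
    ((res φ H hH x : H) : G) = φ x := rfl

theorem res_iter (φ : G →* G) (H : Subgroup G) (hH : ∀ x ∈ H, φ x ∈ H) (k : ℕ) (x : H) :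
    (((res φ H hH)^[k] x : H) : G) = φ^[k] x := by
  induction k with
  | zero => rfl
  | succ k ih => rw [Function.iterate_succ_apply', Function.iterate_succ_apply', res_coe, ih]

theorem res_fpf (φ : G →* G) (hφ : MonoidHom.FixedPointFree φ) (H : Subgroup G)
    (hH : ∀ x ∈ H, φ x ∈ H) : MonoidHom.FixedPointFree (res φ H hH) := by
  intro x hx
  have := hφ x (by rw [← res_coe φ H hH x, hx])
  exact Subtype.ext this

/-- the map induced by `φ` on the quotient by an invariant normal subgroup -/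
def quo (φ : G →* G) (N : Subgroup G) [N.Normal] (hN : ∀ x ∈ N, φ x ∈ N) : G ⧸ N →* G ⧸ N :=
  QuotientGroup.map N N φ (fun x hx => hN x hx)

theorem quo_mk (φ : G →* G) (N : Subgroup G) [N.Normal] (hN : ∀ x ∈ N, φ x ∈ N) (x : G) :
    quo φ N hN (x : G ⧸ N) = ((φ x : G) : G ⧸ N) := rfl

theorem quo_iter (φ : G →* G) (N : Subgroup G) [N.Normal] (hN : ∀ x ∈ N, φ x ∈ N) (k : ℕ)
    (x : G) : (quo φ N hN)^[k] (x : G ⧸ N) = ((φ^[k] x : G) : G ⧸ N) := by
  induction k with
  | zero => rfl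
  | succ k ih => rw [Function.iterate_succ_apply', Function.iterate_succ_apply', ih, quo_mk]

theorem quo_fpf [Finite G] (φ : G →* G) (hφ : MonoidHom.FixedPointFree φ) (N : Subgroup G)
    [N.Normal] (hN : ∀ x ∈ N, φ x ∈ N) : MonoidHom.FixedPointFree (quo φ N hN) := by
  intro y hy
  obtain ⟨x, rfl⟩ := QuotientGroup.mk_surjective y
  rw [quo_mk, QuotientGroup.eq] at hy
  obtain ⟨c, hc⟩ := exists_comm_form (res φ N hN) (res_fpf φ hφ N hN) ⟨_, hy⟩
  have hc' : (φ x)⁻¹ * x = (φ c)⁻¹ * c := by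
    have := congrArg Subtype.val hc
    rw [Subgroup.coe_mul, Subgroup.coe_inv, res_coe] at this
    exact this
  have h1 : φ (x * (c : G)⁻¹) = x * (c : G)⁻¹ := by
    rw [map_mul, map_inv]
    calc φ x * (φ c)⁻¹ = φ x * ((φ c)⁻¹ * c) * (c : G)⁻¹ := by group
      _ = φ x * ((φ x)⁻¹ * x) * (c : G)⁻¹ := by rw [hc']
      _ = x * (c : G)⁻¹ := by group
  have h2 := hφ _ h1
  have h3 : x = c := mul_inv_eq_one.mp h2
  rw [h3]
  exact (QuotientGroup.eq_one_iff _).mpr c.2

theorem center_like_map [Finite G] (φ : G →* G) (hinj : Function.Injective φ) (H : Subgroup G)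
    (hH : H.map φ = H) :
    (H ⊓ Subgroup.centralizer (H : Set G)).map φ = H ⊓ Subgroup.centralizer (H : Set G) := by
  apply map_eq_of_inv φ hinj
  intro x hx
  refine Subgroup.mem_inf.mpr ⟨inv_of_map_eq φ H hH x hx.1, ?_⟩
  rw [Subgroup.mem_centralizer_iff]
  intro h hh
  rw [← hH] at hh
  obtain ⟨h', hh', rfl⟩ := hh
  rw [← map_mul, ← map_mul, (Subgroup.mem_centralizer_iff.mp hx.2) h' hh']

theorem normalizer_inv (φ : G →* G) (hbij : Function.Bijective φ) (H : Subgroup G)
    (hH : H.map φ = H) : ∀ x ∈ Subgroup.normalizer (H : Set G), φ x ∈ Subgroup.normalizer (H : Set G) := by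
  intro x hx
  rw [Subgroup.mem_normalizer_iff] at hx ⊢
  intro h
  obtain ⟨h', rfl⟩ := hbij.2 h
  have e1 : φ h' ∈ H ↔ h' ∈ H := by
    conv_lhs => rw [← hH]
    exact Subgroup.mem_map_iff_mem hbij.1
  have e2 : φ x * φ h' * (φ x)⁻¹ ∈ H ↔ x * h' * x⁻¹ ∈ H := by
    rw [← map_inv, ← map_mul, ← map_mul]
    conv_lhs => rw [← hH]
    exact Subgroup.mem_map_iff_mem hbij.1
  rw [e1, e2]
  exact hx h'

theorem centralizer_inv (φ : G →* G) (H : Subgroup G)
    (hH : H.map φ = H) : ∀ x ∈ Subgroup.centralizer (H : Set G), φ x ∈ Subgroup.centralizer (H : Set G) := by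
  intro x hx
  rw [Subgroup.mem_centralizer_iff] at hx ⊢
  intro h hh
  have hh2 : h ∈ H.map φ := by rw [hH]; exact hh
  obtain ⟨h', hh', rfl⟩ := hh2
  rw [← map_mul, ← map_mul, hx h' hh']

/-- **Frobenius action lemma** (internal form): if `φ` is fixed-point-free of prime order `p` on
`G`, `N` is an abelian normal invariant subgroup, `A` an abelian invariant subgroup of order
prime to `|N|` with `C_N(A) = 1`, then `N = 1`. -/
theorem frob_action [Finite G] (φ : G →* G) (hφ : MonoidHom.FixedPointFree φ) {p : ℕ}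
    (hp : p.Prime) (hp1 : ∀ g, φ^[p] g = g) (N A : Subgroup G) [N.Normal] [IsMulCommutative N]
    (hNφ : ∀ x ∈ N, φ x ∈ N) (hAφ : ∀ x ∈ A, φ x ∈ A)
    (hcop : (Nat.card A).Coprime (Nat.card N))
    (hC : ∀ v ∈ N, (∀ a ∈ A, a * v = v * a) → v = 1) : N = ⊥ := by
  classical
  haveI : Fintype A := Fintype.ofFinite A
  -- the trace over `A` is trivial
  have hT : ∀ w : N, ∏ a : A, MulAut.conjNormal (a : G) w = 1 := by
    intro w
    apply Subtype.ext
    apply hC _ (SetLike.coe_mem _)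
    intro b hb
    have h1 : MulAut.conjNormal b (∏ a : A, MulAut.conjNormal (a : G) w)
        = ∏ a : A, MulAut.conjNormal (a : G) w := by
      rw [map_prod]
      have h0 : ∀ a : A, (MulAut.conjNormal b : N ≃* N) (MulAut.conjNormal (a : G) w)
          = MulAut.conjNormal (((⟨b, hb⟩ : A) * a : A) : G) w := by
        intro a
        rw [Subgroup.coe_mul, map_mul]; rfl
      simp_rw [h0]
      exact Fintype.prod_equiv (Equiv.mulLeft (⟨b, hb⟩ : A)) _ _ (fun a => rfl)
    have h2 := congrArg Subtype.val h1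
    rw [MulAut.conjNormal_apply] at h2
    calc b * ((∏ a : A, MulAut.conjNormal (a : G) w : N) : G)
        = (b * ((∏ a : A, MulAut.conjNormal (a : G) w : N) : G) * b⁻¹) * b := by group
      _ = ((∏ a : A, MulAut.conjNormal (a : G) w : N) : G) * b := by rw [h2]
  -- the twisted norms are trivial
  have hP1 : ∀ (c : G) (v : N), ∏ k ∈ Finset.range p,
      MulAut.conjNormal (c⁻¹ * φ^[k] c) ((res φ N hNφ)^[k] v) = 1 := by
    intro c v
    let ψ : N →* N := ((MulAut.conjNormal c⁻¹ : N ≃* N).toMonoidHom.comp (res φ N hNφ)).comp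
      (MulAut.conjNormal c : N ≃* N).toMonoidHom
    have hψ : ∀ x : N, ((ψ x : N) : G) = c⁻¹ * φ (c * x * c⁻¹) * c := by
      intro x
      show ((MulAut.conjNormal c⁻¹ : N ≃* N) ((res φ N hNφ) ((MulAut.conjNormal c : N ≃* N) x)) : G) = _
      rw [MulAut.conjNormal_apply, res_coe, MulAut.conjNormal_apply, inv_inv]
    have hY : ∀ k : ℕ, ∀ x : N,
        MulAut.conjNormal (c⁻¹ * φ^[k] c) ((res φ N hNφ)^[k] x) = ψ^[k] x := by
      intro k
      induction k with
      | zero => intro x; apply Subtype.ext; rw [MulAut.conjNormal_apply]; simp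
      | succ k ih =>
        intro x
        rw [Function.iterate_succ_apply' ψ, ← ih]
        apply Subtype.ext
        rw [hψ, MulAut.conjNormal_apply, MulAut.conjNormal_apply, res_iter, res_iter]
        rw [Function.iterate_succ_apply', Function.iterate_succ_apply']
        simp only [map_mul, map_inv]; group
    have hψfpf : MonoidHom.FixedPointFree ψ := by
      intro x hx
      have h1 := congrArg Subtype.val hx
      rw [hψ] at h1
      have h2 : φ (c * x * c⁻¹) = c * x * c⁻¹ := by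
        calc φ (c * (x : G) * c⁻¹) = c * (c⁻¹ * φ (c * x * c⁻¹) * c) * c⁻¹ := by group
          _ = c * x * c⁻¹ := by rw [h1]
      have h3 := hφ _ h2
      apply Subtype.ext
      have h4 : (x : G) = c⁻¹ * (c * x * c⁻¹) * c := by group
      rw [h4, h3]; simp
    have hψp : ψ^[p] v = v := by
      rw [← hY]
      apply Subtype.ext
      rw [MulAut.conjNormal_apply, res_iter, hp1, hp1]; simp
    have hw : ψ (∏ k ∈ Finset.range p, ψ^[k] v) = ∏ k ∈ Finset.range p, ψ^[k] v := by
      rw [map_prod]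
      have h0 : ∀ k, ψ (ψ^[k] v) = ψ^[k + 1] v :=
        fun k => (Function.iterate_succ_apply' ψ k v).symm
      simp_rw [h0]
      have h1 : ∏ k ∈ Finset.range (p + 1), ψ^[k] v
          = (∏ k ∈ Finset.range p, ψ^[k + 1] v) * ψ^[0] v := Finset.prod_range_succ' _ _
      have h2 : ∏ k ∈ Finset.range (p + 1), ψ^[k] v
          = (∏ k ∈ Finset.range p, ψ^[k] v) * ψ^[p] v := Finset.prod_range_succ _ _
      rw [h1, hψp, Function.iterate_zero, id_eq] at h2
      exact mul_right_cancel h2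
    have h5 := hψfpf _ hw
    rw [← h5]
    exact Finset.prod_congr rfl (fun k _ => hY k v)
  have hiterA : ∀ k : ℕ, ∀ x ∈ A, φ^[k] x ∈ A := by
    intro k
    induction k with
    | zero => intro x hx; exact hx
    | succ k ih => intro x hx; rw [Function.iterate_succ_apply']; exact hAφ _ (ih x hx)
  have hP2 : ∀ k, 0 < k → k < p → ∀ v : N,
      ∏ c : A, MulAut.conjNormal ((c : G)⁻¹ * φ^[k] (c : G)) ((res φ N hNφ)^[k] v) = 1 := by
    intro k hk0 hkp v
    let β : A → A := fun c =>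
      ⟨(c : G)⁻¹ * φ^[k] (c : G), A.mul_mem (A.inv_mem c.2) (hiterA k _ c.2)⟩
    have hβ : Function.Bijective β := by
      rw [← Finite.injective_iff_bijective]
      intro c d hcd
      have h1 : (c : G)⁻¹ * φ^[k] (c : G) = (d : G)⁻¹ * φ^[k] (d : G) := congrArg Subtype.val hcd
      have h2 : φ^[k] ((d : G) * (c : G)⁻¹) = (d : G) * (c : G)⁻¹ := by
        rw [iterate_map_mul, iterate_map_inv]
        calc φ^[k] (d : G) * (φ^[k] (c : G))⁻¹
            = d * ((d : G)⁻¹ * φ^[k] (d : G)) * (φ^[k] (c : G))⁻¹ := by group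
          _ = d * ((c : G)⁻¹ * φ^[k] (c : G)) * (φ^[k] (c : G))⁻¹ := by rw [h1]
          _ = d * (c : G)⁻¹ := by group
      have h3 := iter_fixed_one φ hφ hp hp1 hk0 hkp _ h2
      apply Subtype.ext
      exact (mul_inv_eq_one.mp h3).symm
    rw [← hT ((res φ N hNφ)^[k] v)]
    exact Function.Bijective.prod_comp hβ
      (fun a : A => MulAut.conjNormal (a : G) ((res φ N hNφ)^[k] v))
  rw [Subgroup.eq_bot_iff_forall]
  intro v hv
  have hmain : ∏ c : A, ∏ k ∈ Finset.range p,
      MulAut.conjNormal ((c : G)⁻¹ * φ^[k] (c : G)) ((res φ N hNφ)^[k] (⟨v, hv⟩ : N)) = 1 := by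
    apply Finset.prod_eq_one; intro c _; exact hP1 c ⟨v, hv⟩
  rw [Finset.prod_comm, Finset.prod_eq_single_of_mem 0 (Finset.mem_range.mpr hp.pos)] at hmain
  · have h0 : ∀ c : A, MulAut.conjNormal ((c : G)⁻¹ * φ^[0] (c : G))
        ((res φ N hNφ)^[0] (⟨v, hv⟩ : N)) = ⟨v, hv⟩ := by
      intro c; apply Subtype.ext; rw [MulAut.conjNormal_apply]; simp
    simp_rw [h0] at hmain
    rw [Finset.prod_const, Finset.card_univ, ← Nat.card_eq_fintype_card] at hmain
    have h1 : orderOf (⟨v, hv⟩ : N) ∣ Nat.card A := orderOf_dvd_of_pow_eq_one hmain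
    have h2 : orderOf (⟨v, hv⟩ : N) ∣ Nat.card N := orderOf_dvd_natCard _
    have h3 : orderOf (⟨v, hv⟩ : N) = 1 := Nat.eq_one_of_dvd_coprimes hcop h1 h2
    rw [orderOf_eq_one_iff] at h3
    exact congrArg Subtype.val h3
  · intro k hk hk0
    exact hP2 k (Nat.pos_of_ne_zero hk0) (Finset.mem_range.mp hk) _

end Cfsg.Agent.Lib.Helper2.Fpf
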