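import Mathlib
import Cfsg.Agent.Lib.Helper2.Fpf
import Cfsg.Agent.Lib.Helper6.NilMax
import Cfsg.Agent.Lib.Helper1.TH1
import Cfsg.Agent.Lib.Lead.Nilpotent
import Cfsg.Agent.S0108
import Cfsg.Agent.S0086

/-!
# Thompson's theorem: a finite group with a fixed-point-free automorphism of prime order is
nilpotent (helper2).  Uses the Thompson normal `p`-complement theorem (S0108).
-/

set_option autoImplicit false
open scoped Pointwise IsMulCommutative

namespace Cfsg.Agent.Lib.Helper2.Fpf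

universe u

/-- a minimal non-nilpotent group with fixed-point-free `φ` has a nontrivial invariant normal
nilpotent subgroup -/
theorem exists_normal_nilpotent {G : Type u} [Group G] [Finite G] (φ : G →* G)
    (hφ : MonoidHom.FixedPointFree φ) (hbij : Function.Bijective φ)
    (hsub : ∀ H : Subgroup G, H ≠ ⊤ → (∀ x ∈ H, φ x ∈ H) → Group.IsNilpotent H)
    (hnil : ¬ Group.IsNilpotent G) :
    ∃ M : Subgroup G, M.Normal ∧ (∀ x ∈ M, φ x ∈ M) ∧ M ≠ ⊥ ∧ Group.IsNilpotent M := by
  have hq : ∃ q : ℕ, q.Prime ∧ q ≠ 2 ∧ q ∣ Nat.card G := by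
    by_contra hcon
    push_neg at hcon
    apply hnil
    have h2 : ∀ {d : ℕ}, d.Prime → d ∣ Nat.card G → d = 2 := by
      intro d hd hdvd
      by_contra hne
      exact hcon d hd hne hdvd
    have hcard := Nat.eq_prime_pow_of_unique_prime_dvd (Nat.card_pos (α := G)).ne' h2
    haveI : Fact (Nat.Prime 2) := ⟨Nat.prime_two⟩
    exact (IsPGroup.of_card hcard).isNilpotent
  obtain ⟨q, hqp, hq2, hqdvd⟩ := hq
  haveI : Fact q.Prime := ⟨hqp⟩
  obtain ⟨Q, hQ⟩ := exists_invariant_sylow φ hφ hbij q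
  have hQne : (Q : Subgroup G) ≠ ⊥ := Sylow.ne_bot_of_dvd_card Q hqdvd
  obtain ⟨J, hJdef⟩ : ∃ J : Subgroup G, J = Cfsg.thompsonSubgroupOf q (Q : Subgroup G) := ⟨_, rfl⟩
  have hJ : J.map φ = J := by
    have := Cfsg.Agent.Lib.Helper1.thompsonSubgroupOf_map_inj q φ hbij.1 (Q : Subgroup G)
    rw [hQ] at this
    rw [hJdef]
    exact this.symm
  have hJne : J ≠ ⊥ := by
    rw [hJdef]
    exact Cfsg.Agent.Lib.Helper1.indW_ne_bot (fun Q _ => Cfsg.thompsonSubgroup q Q)
      (Cfsg.Agent.Lib.Helper1.thompson_isCharPFunctor q) (Q : Subgroup G) Q.isPGroup' hQne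
  obtain ⟨Z, hZdef⟩ : ∃ Z : Subgroup G,
      Z = (Q : Subgroup G) ⊓ Subgroup.centralizer ((Q : Subgroup G) : Set G) := ⟨_, rfl⟩
  have hZ : Z.map φ = Z := by rw [hZdef]; exact center_like_map φ hbij.1 _ hQ
  have hZne : Z ≠ ⊥ := by
    rw [hZdef]; exact Cfsg.Agent.Lib.Helper1.center_ne_bot_of_pgroup _ Q.isPGroup' hQne
  by_cases hNJ : Subgroup.normalizer (J : Set G) = ⊤
  · haveI hJn : J.Normal := Subgroup.normalizer_eq_top_iff.mp hNJ
    refine ⟨J, hJn, inv_of_map_eq φ J hJ, hJne, ?_⟩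
    have hJQ : J ≤ (Q : Subgroup G) := by
      rw [hJdef]; exact Cfsg.Agent.Lib.Helper1.thompsonSubgroupOf_le q _
    exact (Q.isPGroup'.to_le hJQ).isNilpotent
  by_cases hCZ : Subgroup.centralizer (Z : Set G) = ⊤
  · have hZc : (Z : Set G) ⊆ Subgroup.center G := Subgroup.centralizer_eq_top_iff_subset.mp hCZ
    haveI hZn : Z.Normal := ⟨fun z hz g => by
      have h1 := Subgroup.mem_center_iff.mp (hZc hz) g
      rw [h1, mul_inv_cancel_right]; exact hz⟩
    refine ⟨Z, hZn, inv_of_map_eq φ Z hZ, hZne, ?_⟩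
    have hZQ : Z ≤ (Q : Subgroup G) := by rw [hZdef]; exact inf_le_left
    exact (Q.isPGroup'.to_le hZQ).isNilpotent
  · have h1 : Group.IsNilpotent (Subgroup.normalizer (J : Set G)) :=
      hsub _ hNJ (normalizer_inv φ hbij J hJ)
    have h2 : Group.IsNilpotent (Subgroup.centralizer (Z : Set G)) :=
      hsub _ hCZ (centralizer_inv φ Z hZ)
    have h1' := Cfsg.Agent.Lib.Helper6.npc_of_nilpotent h1 q
    have h2' := Cfsg.Agent.Lib.Helper6.npc_of_nilpotent h2 q
    rw [hJdef] at h1'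
    rw [hZdef] at h2'
    have h3 := (Cfsg.Agent.S0108.result (G := G) (p := q) hq2 Q).mpr ⟨h1', h2'⟩
    obtain ⟨P, K, hKn, hKc⟩ := h3
    haveI := hKn
    have hKmem : ∀ x, x ∈ K ↔ Nat.Coprime (orderOf x) q := Cfsg.Agent.S0086.result P K hKc
    have hKφ : ∀ x ∈ K, φ x ∈ K := by
      intro x hx
      rw [hKmem] at hx ⊢
      rwa [orderOf_injective φ hbij.1 x]
    have hKtop : K ≠ ⊤ := by
      intro h
      have hcard := hKc.card_mul_card
      rw [h, Subgroup.card_top] at hcard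
      have hP1 : Nat.card (P : Subgroup G) = 1 :=
        Nat.eq_of_mul_eq_mul_left (Nat.card_pos (α := G)) (by rw [hcard, mul_one])
      exact Sylow.ne_bot_of_dvd_card P hqdvd (Subgroup.card_eq_one.mp hP1)
    have hKnil : Group.IsNilpotent K := hsub K hKtop hKφ
    have hKbot : K ≠ ⊥ := by
      intro h
      apply hnil
      have hcard := hKc.card_mul_card
      rw [h, Subgroup.card_bot, one_mul] at hcard
      obtain ⟨k, hk⟩ := IsPGroup.iff_card.mp P.isPGroup'
      rw [hk] at hcard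
      exact (IsPGroup.of_card hcard.symm).isNilpotent
    exact ⟨K, hKn, hKφ, hKbot, hKnil⟩

/-- inside a nontrivial invariant normal nilpotent subgroup there is a minimal invariant normal
subgroup, which is abelian of prime exponent -/
theorem exists_min_abelian {G : Type u} [Group G] [Finite G] (φ : G →* G)
    (hbij : Function.Bijective φ) (M : Subgroup G) [M.Normal] (hMφ : ∀ x ∈ M, φ x ∈ M)
    (hMne : M ≠ ⊥) (hMnil : Group.IsNilpotent M) :
    ∃ (s : ℕ) (N : Subgroup G), s.Prime ∧ N.Normal ∧ (∀ x ∈ N, φ x ∈ N) ∧ N ≠ ⊥ ∧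
      (∀ a ∈ N, ∀ b ∈ N, a * b = b * a) ∧ (∀ x ∈ N, x ^ s = 1) ∧
      (∀ C : Subgroup G, C.Normal → (∀ x ∈ C, φ x ∈ C) → C ≤ N → C = ⊥ ∨ C = N) := by
  classical
  obtain ⟨ZM, hZMdef⟩ : ∃ ZM : Subgroup G, ZM = M ⊓ Subgroup.centralizer (M : Set G) := ⟨_, rfl⟩
  have hZMn : ZM.Normal := by rw [hZMdef]; infer_instance
  have hZMφ : ∀ x ∈ ZM, φ x ∈ ZM := by
    rw [hZMdef]
    exact inv_of_map_eq φ _ (center_like_map φ hbij.1 M (map_eq_of_inv φ hbij.1 M hMφ))
  have hZMne : ZM ≠ ⊥ := by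
    haveI := hMnil
    haveI : Nontrivial M := (Subgroup.nontrivial_iff_ne_bot M).mpr hMne
    have h1 := Cfsg.Agent.Lib.Lead.normal_inf_center_ne_bot (⊤ : Subgroup M) top_ne_bot
    rw [top_inf_eq] at h1
    obtain ⟨z, hz1⟩ := (Subgroup.ne_bot_iff_exists_ne_one).mp h1
    intro hbot
    have hmem : ((z : M) : G) ∈ ZM := by
      rw [hZMdef]
      refine Subgroup.mem_inf.mpr ⟨(z : M).2, ?_⟩
      rw [Subgroup.mem_centralizer_iff]
      intro m hm
      have := Subgroup.mem_center_iff.mp z.2 ⟨m, hm⟩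
      exact congrArg Subtype.val this
    rw [hbot, Subgroup.mem_bot] at hmem
    exact hz1 (Subtype.ext (Subtype.ext hmem))
  have hZMcomm : ∀ a ∈ ZM, ∀ b ∈ ZM, a * b = b * a := by
    intro a ha b hb
    rw [hZMdef] at ha hb
    exact (Subgroup.mem_centralizer_iff.mp hb.2) a ha.1
  have hcardZM : Nat.card ZM ≠ 1 := fun h => hZMne (Subgroup.card_eq_one.mp h)
  obtain ⟨s, hs, hsdvd⟩ := Nat.exists_prime_and_dvd hcardZM
  haveI : Fact s.Prime := ⟨hs⟩
  let N₀ : Subgroup G :=
    { carrier := {x | x ∈ ZM ∧ x ^ s = 1}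
      mul_mem' := by
        rintro a b ⟨ha, ha1⟩ ⟨hb, hb1⟩
        refine ⟨ZM.mul_mem ha hb, ?_⟩
        rw [(show Commute a b from hZMcomm a ha b hb).mul_pow, ha1, hb1, one_mul]
      one_mem' := ⟨ZM.one_mem, one_pow _⟩
      inv_mem' := by
        rintro a ⟨ha, ha1⟩
        exact ⟨ZM.inv_mem ha, by rw [inv_pow, ha1, inv_one]⟩ }
  have hN₀mem : ∀ x, x ∈ N₀ ↔ x ∈ ZM ∧ x ^ s = 1 := fun x => Iff.rfl
  have hN₀n : N₀.Normal := by
    constructor
    intro x hx g
    rw [hN₀mem] at hx ⊢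
    exact ⟨hZMn.conj_mem x hx.1 g, by rw [conj_pow, hx.2, mul_one, mul_inv_cancel]⟩
  have hN₀φ : ∀ x ∈ N₀, φ x ∈ N₀ := by
    intro x hx
    rw [hN₀mem] at hx ⊢
    exact ⟨hZMφ x hx.1, by rw [← map_pow, hx.2, map_one]⟩
  have hN₀ne : N₀ ≠ ⊥ := by
    obtain ⟨x, hx⟩ := exists_prime_orderOf_dvd_card' s hsdvd
    intro h
    have hmem : (x : G) ∈ N₀ := by
      rw [hN₀mem]
      refine ⟨x.2, ?_⟩
      have h1 := pow_orderOf_eq_one x
      rw [hx] at h1
      have h2 := congrArg Subtype.val h1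
      rw [Subgroup.coe_pow] at h2
      exact h2
    rw [h, Subgroup.mem_bot] at hmem
    have hx1 : x = 1 := Subtype.ext hmem
    rw [hx1, orderOf_one] at hx
    exact hs.one_lt.ne hx
  let 𝒮 : Set (Subgroup G) := {N | N.Normal ∧ (∀ x ∈ N, φ x ∈ N) ∧ N ≠ ⊥ ∧ N ≤ N₀}
  have h𝒮 : 𝒮.Nonempty := ⟨N₀, hN₀n, hN₀φ, hN₀ne, le_rfl⟩
  obtain ⟨N, hN𝒮, hNmin⟩ :=
    WellFounded.has_min (measure (fun N : Subgroup G => Nat.card N)).wf 𝒮 h𝒮
  obtain ⟨hNn, hNφ, hNne, hNle⟩ := hN𝒮
  refine ⟨s, N, hs, hNn, hNφ, hNne, ?_, ?_, ?_⟩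
  · intro a ha b hb
    exact hZMcomm a ((hN₀mem a).mp (hNle ha)).1 b ((hN₀mem b).mp (hNle hb)).1
  · intro x hx
    exact ((hN₀mem x).mp (hNle hx)).2
  · intro C hCn hCφ hCle
    by_cases hC : C = ⊥
    · exact Or.inl hC
    · right
      have h1 := hNmin C ⟨hCn, hCφ, hC, hCle.trans hNle⟩
      have h2 : Nat.card N ≤ Nat.card C := by
        by_contra hlt
        exact h1 (by show Nat.card C < Nat.card N; omega)
      exact Subgroup.eq_of_le_of_card_ge hCle h2

/-- the solvable step of Thompson's theorem -/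
theorem nilpotent_of_min_abelian {G : Type u} [Group G] [Finite G] (φ : G →* G)
    (hφ : MonoidHom.FixedPointFree φ) {p : ℕ} (hp : p.Prime) (hp1 : ∀ g, φ^[p] g = g)
    (hsub : ∀ H : Subgroup G, H ≠ ⊤ → (∀ x ∈ H, φ x ∈ H) → Group.IsNilpotent H)
    (hquo : ∀ (K : Subgroup G) [K.Normal], K ≠ ⊥ → (∀ x ∈ K, φ x ∈ K) →
      Group.IsNilpotent (G ⧸ K))
    (s : ℕ) (hs : s.Prime) (N : Subgroup G) [hNn : N.Normal] (hNφ : ∀ x ∈ N, φ x ∈ N)
    (hNne : N ≠ ⊥)
    (hNcomm : ∀ a ∈ N, ∀ b ∈ N, a * b = b * a) (hNs : ∀ x ∈ N, x ^ s = 1)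
    (hNmin : ∀ C : Subgroup G, C.Normal → (∀ x ∈ C, φ x ∈ C) → C ≤ N → C = ⊥ ∨ C = N) :
    Group.IsNilpotent G := by
  classical
  have hbij := bijective_of_iter φ hp hp1
  haveI : Fact s.Prime := ⟨hs⟩
  haveI hNc : IsMulCommutative N := ⟨⟨fun a b => Subtype.ext (hNcomm a a.2 b b.2)⟩⟩
  have hNp : IsPGroup s N := fun x => ⟨1, by
    rw [pow_one]; apply Subtype.ext; rw [Subgroup.coe_pow]; exact hNs x x.2⟩
  have hQnil : Group.IsNilpotent (G ⧸ N) := hquo N hNne hNφ
  have htf := (Group.isNilpotent_of_finite_tfae (G := G)).out 0 3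
  have htfQ := ((Group.isNilpotent_of_finite_tfae (G := G ⧸ N)).out 0 3).mp hQnil
  by_contra hnil
  apply hnil
  rw [htf]
  intro r hr P
  haveI := hr
  by_cases hrs : r = s
  · subst hrs
    have hNP : N ≤ (P : Subgroup G) := by
      obtain ⟨P', hP'⟩ := hNp.exists_le_sylow
      obtain ⟨g, rfl⟩ := MulAction.exists_smul_eq G P' P
      intro x hx
      rw [Cfsg.Agent.Lib.Helper2.mem_smul_sylow]
      have h1 := hNn.conj_mem x hx g⁻¹
      rw [inv_inv] at h1
      exact hP' h1
    have h1 : ((P.mapSurjective (QuotientGroup.mk'_surjective N) : Sylow r (G ⧸ N)) :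
        Subgroup (G ⧸ N)).Normal := htfQ r hr _
    rw [Sylow.coe_mapSurjective] at h1
    have h2 : ((P : Subgroup G).map (QuotientGroup.mk' N)).comap (QuotientGroup.mk' N) = P := by
      apply Subgroup.comap_map_eq_self
      rw [QuotientGroup.ker_mk']; exact hNP
    rw [← h2]
    exact h1.comap _
  · obtain ⟨R, hR⟩ := exists_invariant_sylow φ hφ hbij r
    suffices hRn : (R : Subgroup G).Normal by
      obtain ⟨g, rfl⟩ := MulAction.exists_smul_eq G R P
      rw [Sylow.smul_eq_of_normal]; exact hRn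
    have hRφ : ∀ x ∈ (R : Subgroup G), φ x ∈ (R : Subgroup G) := inv_of_map_eq φ _ hR
    obtain ⟨H, hHdef⟩ : ∃ H : Subgroup G, H = N ⊔ (R : Subgroup G) := ⟨_, rfl⟩
    have hHn : H.Normal := by
      have h1 : ((R.mapSurjective (QuotientGroup.mk'_surjective N) : Sylow r (G ⧸ N)) :
          Subgroup (G ⧸ N)).Normal := htfQ r hr _
      rw [Sylow.coe_mapSurjective] at h1
      have h2 : ((R : Subgroup G).map (QuotientGroup.mk' N)).comap (QuotientGroup.mk' N) = H := by
        rw [Subgroup.comap_map_eq, QuotientGroup.ker_mk', hHdef, sup_comm]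
      rw [← h2]; exact h1.comap _
    have hHφ : ∀ x ∈ H, φ x ∈ H := by
      intro x hx
      have h1 : φ x ∈ H.map φ := Subgroup.mem_map_of_mem _ hx
      rw [hHdef, Subgroup.map_sup] at h1
      rw [hHdef]
      have hle : N.map φ ⊔ (R : Subgroup G).map φ ≤ N ⊔ (R : Subgroup G) := by
        apply sup_le_sup
        · rintro _ ⟨y, hy, rfl⟩; exact hNφ y hy
        · rintro _ ⟨y, hy, rfl⟩; exact hRφ y hy
      exact hle h1
    by_cases hHtop : H = ⊤
    · by_cases hRbot : (R : Subgroup G) = ⊥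
      · rw [hRbot]; infer_instance
      obtain ⟨A, hAdef⟩ : ∃ A : Subgroup G,
          A = (R : Subgroup G) ⊓ Subgroup.centralizer ((R : Subgroup G) : Set G) := ⟨_, rfl⟩
      have hAne : A ≠ ⊥ := by
        rw [hAdef]; exact Cfsg.Agent.Lib.Helper1.center_ne_bot_of_pgroup _ R.isPGroup' hRbot
      have hAmap : A.map φ = A := by rw [hAdef]; exact center_like_map φ hbij.1 _ hR
      have hAφ : ∀ x ∈ A, φ x ∈ A := inv_of_map_eq φ A hAmap
      have hAR : A ≤ (R : Subgroup G) := by rw [hAdef]; exact inf_le_left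
      have hAcent : ∀ a ∈ A, ∀ y ∈ (R : Subgroup G), y * a = a * y := by
        intro a ha y hy
        rw [hAdef] at ha
        exact (Subgroup.mem_centralizer_iff.mp ha.2) y hy
      haveI hAc : IsMulCommutative A :=
        ⟨⟨fun a b => Subtype.ext (hAcent b b.2 a (hAR a.2))⟩⟩
      have hcop : (Nat.card A).Coprime (Nat.card N) := by
        obtain ⟨i, hi⟩ := IsPGroup.iff_card.mp (R.isPGroup'.to_le hAR)
        obtain ⟨j, hj⟩ := IsPGroup.iff_card.mp hNp
        rw [hi, hj]
        exact Nat.Coprime.pow _ _ ((Nat.coprime_primes hr.out hs).mpr hrs)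
      have hdec : ∀ g : G, ∃ n ∈ N, ∃ y ∈ (R : Subgroup G), g = n * y := by
        intro g
        have hg : g ∈ N ⊔ (R : Subgroup G) := by rw [← hHdef, hHtop]; exact Subgroup.mem_top g
        rw [Subgroup.mem_sup_of_normal_left] at hg
        obtain ⟨n, hn, y, hy, rfl⟩ := hg
        exact ⟨n, hn, y, hy, rfl⟩
      obtain ⟨C, hCdef⟩ : ∃ C : Subgroup G, C = N ⊓ Subgroup.centralizer (A : Set G) :=
        ⟨_, rfl⟩
      have hCmem : ∀ x, x ∈ C ↔ x ∈ N ∧ ∀ a ∈ A, a * x = x * a := by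
        intro x; rw [hCdef, Subgroup.mem_inf, Subgroup.mem_centralizer_iff]; rfl
      have hCn : C.Normal := by
        constructor
        intro x hx g
        obtain ⟨n, hn, y, hy, rfl⟩ := hdec g
        rw [hCmem] at hx
        have hx' : y * x * y⁻¹ ∈ C := by
          rw [hCmem]
          refine ⟨hNn.conj_mem x hx.1 y, ?_⟩
          intro a ha
          have hay : y * a = a * y := hAcent a ha y hy
          have hay' : y⁻¹ * a = a * y⁻¹ := hAcent a ha y⁻¹ (inv_mem hy)
          have hax := hx.2 a ha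
          calc a * (y * x * y⁻¹) = (a * y) * x * y⁻¹ := by group
            _ = y * (a * x) * y⁻¹ := by rw [← hay]; group
            _ = y * (x * a) * y⁻¹ := by rw [hax]
            _ = y * x * (a * y⁻¹) := by group
            _ = y * x * (y⁻¹ * a) := by rw [hay']
            _ = y * x * y⁻¹ * a := by group
        have hx'' := (hCmem _).mp hx'
        have e : n * y * x * (n * y)⁻¹ = n * (y * x * y⁻¹) * n⁻¹ := by group
        rw [e, hNcomm n hn _ hx''.1, mul_inv_cancel_right]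
        exact hx'
      have hCφ : ∀ x ∈ C, φ x ∈ C := by
        intro x hx
        rw [hCdef] at hx ⊢
        exact Subgroup.mem_inf.mpr ⟨hNφ x hx.1, centralizer_inv φ A hAmap x hx.2⟩
      rcases hNmin C hCn hCφ (by rw [hCdef]; exact inf_le_left) with hC | hC
      · exfalso
        apply hNne
        apply frob_action φ hφ hp hp1 N A hNφ hAφ hcop
        intro v hv hva
        have h1 : v ∈ C := (hCmem v).mpr ⟨hv, hva⟩
        rw [hC, Subgroup.mem_bot] at h1
        exact h1
      · exfalso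
        apply hnil
        have hAcen : A ≤ Subgroup.center G := by
          intro a ha
          rw [Subgroup.mem_center_iff]
          intro g
          obtain ⟨n, hn, y, hy, rfl⟩ := hdec g
          have hn' : n ∈ C := by rw [hC]; exact hn
          have han : a * n = n * a := ((hCmem n).mp hn').2 a ha
          have hay : y * a = a * y := hAcent a ha y hy
          calc n * y * a = n * (y * a) := by group
            _ = n * (a * y) := by rw [hay]
            _ = (n * a) * y := by group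
            _ = (a * n) * y := by rw [han]
            _ = a * (n * y) := by group
        haveI hAn : A.Normal := ⟨fun z hz g => by
          have h1 := Subgroup.mem_center_iff.mp (hAcen hz) g
          rw [h1, mul_inv_cancel_right]; exact hz⟩
        haveI hq := hquo A hAne hAφ
        exact Subgroup.isNilpotent_of_ker_le_center (QuotientGroup.mk' A)
          (by rw [QuotientGroup.ker_mk']; exact hAcen)
    · have hHnil : Group.IsNilpotent H := hsub H hHtop hHφ
      have hRH : (R : Subgroup G) ≤ H := by rw [hHdef]; exact le_sup_right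
      have htfH := ((Group.isNilpotent_of_finite_tfae (G := H)).out 0 3).mp hHnil
      have h1 : ((R.subtype hRH : Sylow r H) : Subgroup H).Normal := htfH r hr _
      haveI h2 : ((R.subtype hRH : Sylow r H) : Subgroup H).Characteristic :=
        Sylow.characteristic_of_normal _ h1
      haveI := hHn
      have h3 : (((R.subtype hRH : Sylow r H) : Subgroup H).map H.subtype).Normal :=
        ConjAct.normal_of_characteristic_of_normal
      rw [Sylow.coe_subtype, Subgroup.subgroupOf_map_subtype, inf_of_le_left hRH] at h3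
      exact h3

/-- **Thompson**: a finite group with a fixed-point-free endomorphism `φ` with `φ^p = 1`, `p`
prime, is nilpotent. -/
theorem nilpotent_aux (p : ℕ) (hp : p.Prime) : ∀ (n : ℕ) (G : Type u) [Group G] [Finite G],
    Nat.card G ≤ n → ∀ φ : G →* G, MonoidHom.FixedPointFree φ → (∀ g, φ^[p] g = g) →
    Group.IsNilpotent G := by
  intro n
  induction n with
  | zero =>
    intro G _ _ hn
    have := Nat.card_pos (α := G)
    exact absurd hn (by omega)
  | succ n ih =>
    intro G _ _ hn φ hφ hp1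
    by_contra hnil
    have hbij := bijective_of_iter φ hp hp1
    have hsub : ∀ H : Subgroup G, H ≠ ⊤ → (∀ x ∈ H, φ x ∈ H) → Group.IsNilpotent H := by
      intro H hH hHφ
      have hlt : Nat.card H < Nat.card G := by
        have h1 := Subgroup.card_le_card_group H
        have h2 : Nat.card H ≠ Nat.card G := fun h => hH ((Subgroup.card_eq_iff_eq_top H).mp h)
        omega
      exact ih H (by omega) (res φ H hHφ) (res_fpf φ hφ H hHφ)
        (fun g => Subtype.ext (by rw [res_iter, hp1]))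
    have hquo : ∀ (K : Subgroup G) [K.Normal], K ≠ ⊥ → (∀ x ∈ K, φ x ∈ K) →
        Group.IsNilpotent (G ⧸ K) := by
      intro K _ hK hKφ
      have hlt : Nat.card (G ⧸ K) < Nat.card G := by
        have h1 := Subgroup.card_mul_index K
        rw [Subgroup.index_eq_card] at h1
        have h2 : 1 < Nat.card K := (Subgroup.one_lt_card_iff_ne_bot K).mpr hK
        have h3 := Nat.card_pos (α := G ⧸ K)
        nlinarith
      exact ih (G ⧸ K) (by omega) (quo φ K hKφ) (quo_fpf φ hφ K hKφ) (fun y => by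
        obtain ⟨x, rfl⟩ := QuotientGroup.mk_surjective y
        rw [quo_iter, hp1])
    obtain ⟨M, hMn, hMφ, hMne, hMnil⟩ := exists_normal_nilpotent φ hφ hbij hsub hnil
    haveI := hMn
    obtain ⟨s, N, hs, hNn, hNφ, hNne, hNcomm, hNs, hNmin⟩ :=
      exists_min_abelian φ hbij M hMφ hMne hMnil
    haveI := hNn
    exact hnil (nilpotent_of_min_abelian φ hφ hp hp1 hsub hquo s hs N hNφ hNne hNcomm hNs hNmin)

end Cfsg.Agent.Lib.Helper2.Fpf
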