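import Mathlib
import Cfsg.Prelude.Def_Transfer
import Cfsg.Prelude.Def_TwoFusion
import Cfsg.Agent.Lib.Helper2.Basic

set_option autoImplicit false

namespace Cfsg.Agent.Lib.Helper2

theorem mem_normalizer_of_map_conj_eq {G : Type*} [Group G] (A : Subgroup G) (n : G)
    (h : A.map (MulAut.conj n).toMonoidHom = A) : n ∈ Subgroup.normalizer (A : Set G) := by
  rw [Subgroup.mem_normalizer_iff]
  intro x
  constructor
  · intro hx
    rw [← h]
    exact conj_mem_map_conj A n x hx
  · intro hx
    rw [← h, mem_map_conj] at hx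
    convert hx using 1
    group

/-- If `W` is weakly closed in the Sylow subgroup `T` and both `W` and a conjugate of `W` lie in a
`p`-subgroup `R`, then the conjugate equals `W`. -/
theorem weaklyClosed_conj_eq {G : Type*} [Group G] [Finite G] {p : ℕ} [Fact p.Prime] (T : Sylow p G)
    (W : Subgroup G) (hW : Cfsg.IsWeaklyClosed W (T : Subgroup G)) (R : Subgroup G) (hR : IsPGroup p R)
    (x : G) (h1 : W ≤ R) (h2 : W.map (MulAut.conj x).toMonoidHom ≤ R) :
    W.map (MulAut.conj x).toMonoidHom = W := by
  obtain ⟨hWT, hwc⟩ := hW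
  obtain ⟨Q, hQ⟩ := hR.exists_le_sylow
  obtain ⟨h, rfl⟩ := MulAction.exists_smul_eq G T Q
  have hAQ : W ≤ ((h • T : Sylow p G) : Subgroup G) := le_trans h1 hQ
  have hBQ : W.map (MulAut.conj x).toMonoidHom ≤ ((h • T : Sylow p G) : Subgroup G) := le_trans h2 hQ
  have k1 : W.map (MulAut.conj h⁻¹).toMonoidHom ≤ (T : Subgroup G) := by
    intro y hy
    rw [mem_map_conj] at hy
    have := hAQ hy
    rw [mem_smul_sylow] at this
    simp only [inv_inv] at hy this
    convert this using 1
    group
  have k2 : W.map (MulAut.conj (h⁻¹ * x)).toMonoidHom ≤ (T : Subgroup G) := by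
    intro y hy
    rw [mem_map_conj] at hy
    have hy' : h * y * h⁻¹ ∈ W.map (MulAut.conj x).toMonoidHom := by
      rw [mem_map_conj]
      convert hy using 1
      group
    have := hBQ hy'
    rw [mem_smul_sylow] at this
    convert this using 1
    group
  have e1 := hwc _ k1
  have e2 := hwc _ k2
  calc W.map (MulAut.conj x).toMonoidHom
      = (W.map (MulAut.conj (h⁻¹ * x)).toMonoidHom).map (MulAut.conj h).toMonoidHom := by
        rw [map_conj_map_conj]; congr 3; group
    _ = (W.map (MulAut.conj h⁻¹).toMonoidHom).map (MulAut.conj h).toMonoidHom := by rw [e2, e1]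
    _ = W := by
        rw [map_conj_map_conj]
        have : h * h⁻¹ = 1 := by group
        rw [this, map_conj_one]

end Cfsg.Agent.Lib.Helper2
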