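import Mathlib
import Cfsg.Agent.Lib.Helper2.Gaschutz

/-!
An abelian normal subgroup is complemented as soon as it is complemented in subgroups
whose indices have no common prime divisor.
-/

set_option autoImplicit false

namespace Cfsg.Agent.Lib.Helper2.Gaschutz

open scoped IsMulCommutative Pointwise

variable {G : Type*} [Group G]

theorem exists_complement_of_local [Finite G] (A : Subgroup G) [A.Normal] [IsMulCommutative A]
    (h : ∀ p : ℕ, p.Prime → p ∣ A.index →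
      ∃ U K : Subgroup G, K ⊓ A = ⊥ ∧ A ⊔ K = U ∧ ¬ p ∣ U.index) :
    ∃ H : Subgroup G, A.IsComplement' H := by
  let I : AddSubgroup ℤ :=
    { carrier := {n : ℤ | ∃ φ : G → ↥A,
        (∀ g h : G, φ (g * h) = φ g * MulAut.conjNormal g (φ h)) ∧ ∀ a : ↥A, φ (a : G) = a ^ n}
      zero_mem' := ⟨fun _ => 1, fun g h => by simp, fun a => by simp⟩
      add_mem' := by
        rintro n₁ n₂ ⟨φ₁, h1, h1'⟩ ⟨φ₂, h2, h2'⟩
        refine ⟨fun g => φ₁ g * φ₂ g, fun g h => ?_, fun a => ?_⟩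
        · show φ₁ (g * h) * φ₂ (g * h) = φ₁ g * φ₂ g * MulAut.conjNormal g (φ₁ h * φ₂ h)
          rw [h1, h2, map_mul]; exact mul_mul_mul_comm _ _ _ _
        · show φ₁ a * φ₂ a = a ^ (n₁ + n₂)
          rw [h1', h2', zpow_add]
      neg_mem' := by
        rintro n ⟨φ, h1, h1'⟩
        refine ⟨fun g => (φ g)⁻¹, fun g h => ?_, fun a => ?_⟩
        · show (φ (g * h))⁻¹ = (φ g)⁻¹ * MulAut.conjNormal g (φ h)⁻¹
          rw [h1, mul_inv, map_inv]
        · show (φ a)⁻¹ = a ^ (-n)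
          rw [h1', zpow_neg] }
  have hI : ∀ (U K : Subgroup G), K ⊓ A = ⊥ → A ⊔ K = U → (U.index : ℤ) ∈ I := by
    intro U K hKA hU
    obtain ⟨π, -, -, hπ, hπK⟩ := exists_proj A K hKA
    rw [hU] at hπ
    have hAU : A ≤ U := hU ▸ le_sup_left
    obtain ⟨φ, h1, h2⟩ := exists_crossed A U hAU π hπ hπK
    exact ⟨φ, h1, fun a => by rw [h2, zpow_natCast]⟩
  have hm : (A.index : ℤ) ∈ I := hI A ⊥ (by simp) (by simp)
  obtain ⟨d, hd⟩ := Int.subgroup_cyclic I
  have hdvd : ∀ n ∈ I, d ∣ n := by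
    intro n hn
    rw [hd, AddSubgroup.mem_closure_singleton] at hn
    obtain ⟨k, rfl⟩ := hn
    exact ⟨k, by simp [mul_comm]⟩
  have hdI : d ∈ I := by rw [hd]; exact AddSubgroup.subset_closure rfl
  have hd1 : d.natAbs = 1 := by
    by_contra hne
    obtain ⟨p, hp, hpd⟩ := Nat.exists_prime_and_dvd hne
    have h1 : (p : ℤ) ∣ d := Int.natCast_dvd.mpr hpd
    have h2 : (p : ℤ) ∣ (A.index : ℤ) := h1.trans (hdvd _ hm)
    have h3 : p ∣ A.index := Int.natCast_dvd_natCast.mp h2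
    obtain ⟨U, K, hKA, hU, hpU⟩ := h p hp h3
    have h4 : (p : ℤ) ∣ (U.index : ℤ) := h1.trans (hdvd _ (hI U K hKA hU))
    exact hpU (Int.natCast_dvd_natCast.mp h4)
  have h1I : (1 : ℤ) ∈ I := by
    rcases Int.natAbs_eq d with h | h
    · rw [hd1] at h
      have : d = 1 := by simpa using h
      rw [← this]; exact hdI
    · rw [hd1] at h
      have : -d = 1 := by rw [h]; simp
      rw [← this]; exact I.neg_mem hdI
  obtain ⟨φ, h1, h2⟩ := h1I
  exact exists_complement_of_crossed A 1 (Nat.coprime_one_right _) φ h1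
    (fun a => by rw [h2, zpow_one, pow_one])

end Cfsg.Agent.Lib.Helper2.Gaschutz
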