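import Mathlib
import Cfsg.Agent.Lib.Helper2.Gaschutz

/-!
Relative versions: conjugating a coprime subgroup into a complement; a Frattini-type
splitting criterion.
-/

set_option autoImplicit false

namespace Cfsg.Agent.Lib.Helper2.Gaschutz

open scoped IsMulCommutative Pointwise

variable {G : Type*} [Group G]

/-- a subgroup `H₀` of `K H₁` of order prime to `|K|` is conjugate into `H₁` by an element of
the abelian normal subgroup `K` (where `H₁ ∩ K = 1`) -/
theorem conj_into [Finite G] (K : Subgroup G) [K.Normal] [IsMulCommutative K] (H₀ H₁ : Subgroup G)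
    (hH₁ : H₁ ⊓ K = ⊥) (hle : H₀ ≤ K ⊔ H₁) (hcop : (Nat.card K).Coprime (Nat.card H₀)) :
    ∃ c : ↥K, ∀ h ∈ H₀, (c : G) * h * (c : G)⁻¹ ∈ H₁ := by
  classical
  obtain ⟨π, hπ1, -, hπc, -⟩ := exists_proj K H₁ hH₁
  haveI : Fintype ↥H₀ := Fintype.ofFinite _
  obtain ⟨c', hc'⟩ : ∃ c' : ↥K, c' = ∏ h : ↥H₀, (π (h : G))⁻¹ := ⟨_, rfl⟩
  have hsum : ∀ g : ↥H₀,
      c' = (π (g : G))⁻¹ ^ Nat.card ↥H₀ * MulAut.conjNormal (g : G) c' := by
    intro g
    have e1 : ∏ h : ↥H₀, (π ((g * h : ↥H₀) : G))⁻¹ = c' := by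
      rw [hc']; exact Equiv.prod_comp (Equiv.mulLeft g) (fun h : ↥H₀ => (π (h : G))⁻¹)
    have e2 : ∏ h : ↥H₀, (π ((g * h : ↥H₀) : G))⁻¹
        = (π (g : G))⁻¹ ^ Nat.card ↥H₀ * MulAut.conjNormal (g : G) c' := by
      have : ∀ h : ↥H₀, (π ((g * h : ↥H₀) : G))⁻¹
          = (π (g : G))⁻¹ * MulAut.conjNormal (g : G) ((π (h : G))⁻¹) := by
        intro h
        rw [Subgroup.coe_mul, hπc _ (hle g.2) _ (hle h.2), mul_inv, map_inv]
      simp only [this, Finset.prod_mul_distrib, Finset.prod_const, Finset.card_univ, ← map_prod]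
      rw [← hc', Nat.card_eq_fintype_card]
    exact e1.symm.trans e2
  obtain ⟨c, hc⟩ : ∃ c : ↥K, c ^ Nat.card ↥H₀ = c' :=
    ⟨(powCoprime hcop).symm c', (powCoprime hcop).apply_symm_apply c'⟩
  refine ⟨c, fun h hh => ?_⟩
  have h1 : (π h)⁻¹ = c * (MulAut.conjNormal h c)⁻¹ := by
    apply (powCoprime hcop).injective
    show (π h)⁻¹ ^ Nat.card ↥H₀ = (c * (MulAut.conjNormal h c)⁻¹) ^ Nat.card ↥H₀
    rw [mul_pow, inv_pow (MulAut.conjNormal h c), ← map_pow, hc, eq_mul_inv_iff_mul_eq]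
    exact (hsum ⟨h, hh⟩).symm
  have h3 := hπ1 h (hle hh)
  have e : ((π h : G))⁻¹ * h = (c : G) * h * (c : G)⁻¹ := by
    have := congrArg Subtype.val h1
    rw [Subgroup.coe_inv, Subgroup.coe_mul, Subgroup.coe_inv, MulAut.conjNormal_apply] at this
    rw [this]; group
  rw [e] at h3
  exact h3

/-- relative Schur–Zassenhaus (existence) -/
theorem exists_rel_complement [Finite G] (K U : Subgroup G) (hKU : K ≤ U)
    (hn : U ≤ Subgroup.normalizer (K : Set G))
    (hcop : (Nat.card K).Coprime (K.relIndex U)) :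
    ∃ Y : Subgroup G, Y ≤ U ∧ Y ⊓ K = ⊥ ∧ (∀ u ∈ U, ∃ k ∈ K, ∃ y ∈ Y, u = k * y) ∧
      Nat.card Y = K.relIndex U := by
  haveI : (K.subgroupOf U).Normal := (Subgroup.normal_subgroupOf_iff_le_normalizer hKU).mpr hn
  have hc : (Nat.card (K.subgroupOf U)).Coprime (K.subgroupOf U).index := by
    rw [Nat.card_congr (Subgroup.subgroupOfEquivOfLe hKU).toEquiv]; exact hcop
  obtain ⟨H, hH⟩ := Subgroup.exists_right_complement'_of_coprime hc
  refine ⟨H.map U.subtype, Subgroup.map_subtype_le H, ?_, ?_, ?_⟩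
  · rw [eq_bot_iff]
    rintro x ⟨⟨h, hh, rfl⟩, hxK⟩
    have : h ∈ K.subgroupOf U ⊓ H := ⟨Subgroup.mem_subgroupOf.mpr hxK, hh⟩
    rw [hH.disjoint.eq_bot, Subgroup.mem_bot] at this
    rw [Subgroup.mem_bot, this]; rfl
  · intro u hu
    have h1 : (⟨u, hu⟩ : ↥U) ∈ ((K.subgroupOf U : Subgroup ↥U) : Set ↥U) * (H : Set ↥U) := by
      have := Subgroup.IsComplement.mul_eq hH
      rw [this]; trivial
    obtain ⟨k, hk, y, hy, hky⟩ := Set.mem_mul.mp h1
    refine ⟨k, Subgroup.mem_subgroupOf.mp hk, y, ⟨y, hy, rfl⟩, ?_⟩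
    have := congrArg Subtype.val hky
    simpa using this.symm
  · rw [Nat.card_congr (Subgroup.equivMapOfInjective H U.subtype U.subtype_injective).toEquiv.symm]
    exact (hH.symm.index_eq_card).symm

/-- a normal abelian Hall subgroup `R` of a normal subgroup `U` with `C_R(U) = 1` is complemented
in the whole group (by the normalizer of a complement in `U`) -/
theorem exists_complement_of_normal_hall [Finite G] (R U : Subgroup G) [R.Normal] [U.Normal]
    [IsMulCommutative R] (hRU : R ≤ U) (hcop : (Nat.card R).Coprime (R.relIndex U))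
    (hC : R ⊓ Subgroup.centralizer (U : Set G) = ⊥) :
    ∃ L : Subgroup G, R.IsComplement' L := by
  obtain ⟨Y, hYU, hYR, hprod, hcard⟩ := exists_rel_complement R U hRU
    (by rw [Subgroup.normalizer_eq_top]; exact le_top) hcop
  refine ⟨Subgroup.normalizer (Y : Set G),
    Subgroup.isComplement'_of_disjoint_and_mul_eq_univ ?_ ?_⟩
  · rw [Subgroup.disjoint_def]
    intro r hrR hrL
    have hmem : r ∈ R ⊓ Subgroup.centralizer (U : Set G) := by
      refine ⟨hrR, ?_⟩
      show r ∈ Subgroup.centralizer (U : Set G)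
      rw [Subgroup.mem_centralizer_iff]
      intro u hu
      obtain ⟨k, hk, y, hy, rfl⟩ := hprod u hu
      have h1 : k * r = r * k := congrArg Subtype.val (mul_comm (⟨k, hk⟩ : ↥R) ⟨r, hrR⟩)
      have h2 : y * r = r * y := by
        have hy' : r * y * r⁻¹ ∈ Y := (Subgroup.mem_normalizer_iff.mp hrL y).mp hy
        have h3 : r * y * r⁻¹ * y⁻¹ ∈ Y ⊓ R := ⟨Y.mul_mem hy' (Y.inv_mem hy), by
          have : r * (y * r⁻¹ * y⁻¹) ∈ R :=
            R.mul_mem hrR (‹R.Normal›.conj_mem _ (R.inv_mem hrR) y)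
          simpa [mul_assoc] using this⟩
        rw [hYR, Subgroup.mem_bot] at h3
        have h4 := mul_inv_eq_one.mp h3
        rw [mul_inv_eq_iff_eq_mul] at h4
        exact h4.symm
      rw [mul_assoc, h2, ← mul_assoc, h1, mul_assoc]
    rw [hC] at hmem
    exact Subgroup.mem_bot.mp hmem
  · rw [Set.eq_univ_iff_forall]
    intro x
    have hH0le : Y.map (MulAut.conj x).toMonoidHom ≤ R ⊔ Y := by
      rintro _ ⟨y, hy, rfl⟩
      have hxy : x * y * x⁻¹ ∈ U := ‹U.Normal›.conj_mem _ (hYU hy) x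
      obtain ⟨k, hk, y', hy', e⟩ := hprod _ hxy
      show (MulAut.conj x) y ∈ R ⊔ Y
      rw [MulAut.conj_apply, e]
      exact Subgroup.mul_mem_sup hk hy'
    have hcard0 : Nat.card ↥(Y.map (MulAut.conj x).toMonoidHom) = Nat.card Y :=
      (Nat.card_congr (Subgroup.equivMapOfInjective Y _ (MulAut.conj x).injective).toEquiv).symm
    obtain ⟨c, hc⟩ := conj_into R (Y.map (MulAut.conj x).toMonoidHom) Y hYR hH0le
      (by rw [hcard0, hcard]; exact hcop)
    have hnorm : (c : G) * x ∈ Subgroup.normalizer (Y : Set G) := by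
      apply Subgroup.mem_normalizer_fintype
      intro y hy
      have := hc (x * y * x⁻¹) ⟨y, hy, by simp [MulAut.conj_apply]⟩
      have e : (c : G) * x * y * ((c : G) * x)⁻¹ = (c : G) * (x * y * x⁻¹) * (c : G)⁻¹ := by group
      rw [e]; exact this
    exact Set.mem_mul.mpr ⟨(c : G)⁻¹, R.inv_mem c.2, (c : G) * x, hnorm, by group⟩

end Cfsg.Agent.Lib.Helper2.Gaschutz
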