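import Mathlib
import Cfsg.Prelude
import Cfsg.Agent.Lib.Lead.BaerSuzuki
import Cfsg.Agent.Lib.Lead.Invol2
import Cfsg.Agent.Lib.Helper4.Basic

/-! Involutions inverting no element of odd order lie in `O_2` (a corollary of Baer–Suzuki). -/

namespace Cfsg.Agent.Lib.Helper2.InvOdd

variable {G : Type*} [Group G]

theorem eq_one_of_odd_of_sq {x : G} (hx : Odd (orderOf x)) (h : x ^ 2 = 1) : x = 1 := by
  have h1 : orderOf x ∣ 2 := orderOf_dvd_of_pow_eq_one h
  have h2 : (orderOf x).Coprime 2 := hx.coprime_two_right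
  exact orderOf_eq_one_iff.mp (Nat.Coprime.eq_one_of_dvd h2 h1)

theorem eq_one_of_odd_of_inv_eq {x : G} (hx : Odd (orderOf x)) (h : x⁻¹ = x) : x = 1 := by
  apply eq_one_of_odd_of_sq hx
  rw [pow_two]
  nth_rewrite 1 [← h]
  exact inv_mul_cancel x

/-- an element of odd order is a power of its square -/
theorem commute_of_sq_commute {k h : G} (hk : Odd (orderOf k)) (hc : Commute (k ^ 2) h) : Commute k h := by
  obtain ⟨j, hj⟩ := hk
  have e : k = (k ^ 2) ^ (j + 1) := by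
    rw [← pow_mul]
    have : 2 * (j + 1) = orderOf k + 1 := by omega
    rw [this, pow_succ, pow_orderOf_eq_one, one_mul]
  rw [e]
  exact hc.pow_left (j + 1)

/-- an element of odd order cannot invert a nontrivial element of odd order -/
theorem eq_one_of_odd_invert {e h : G} (he : Odd (orderOf e)) (hh : Odd (orderOf h))
    (hinv : e * h * e⁻¹ = h⁻¹) : h = 1 := by
  have h1 : e * h = h⁻¹ * e := by rw [← hinv]; group
  have h1' : e * h⁻¹ = h * e := by
    have h0 : e * h⁻¹ * e⁻¹ = h := by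
      rw [show e * h⁻¹ * e⁻¹ = (e * h * e⁻¹)⁻¹ by group, hinv, inv_inv]
    have h00 : e * h⁻¹ = (e * h⁻¹ * e⁻¹) * e := by group
    rw [h00, h0]
  have h2 : Commute (e ^ 2) h := by
    show e ^ 2 * h = h * e ^ 2
    rw [pow_two, mul_assoc, h1, ← mul_assoc, h1', mul_assoc]
  have h3 : Commute e h := commute_of_sq_commute he h2
  have h4 : e * h * e⁻¹ = h := by rw [h3.eq, mul_inv_cancel_right]
  rw [h4] at hinv
  exact eq_one_of_odd_of_inv_eq hh hinv.symm

/-- **Corollary of Baer–Suzuki**: an involution that inverts no nontrivial element of odd order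
lies in `O_2(G)`. -/
theorem mem_pCore_two_of_no_inverted [Finite G] (v : G) (hv : orderOf v = 2)
    (h : ∀ x : G, Odd (orderOf x) → v * x * v⁻¹ = x⁻¹ → x = 1) : v ∈ Cfsg.pCore 2 G := by
  haveI : Fact (Nat.Prime 2) := ⟨Nat.prime_two⟩
  have hvv : v * v = 1 := by rw [← pow_two, ← hv, pow_orderOf_eq_one]
  have hvinv : v⁻¹ = v := inv_eq_of_mul_eq_one_left hvv
  let K : Set G := {x | ∃ g : G, x = g * v * g⁻¹}
  have hKn : ∀ x ∈ K, ∀ g : G, g * x * g⁻¹ ∈ K := by
    rintro x ⟨g₁, rfl⟩ g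
    exact ⟨g * g₁, by group⟩
  -- the basic pair
  have hpair : ∀ c : G, IsPGroup 2 (Subgroup.closure ({v, c * v * c⁻¹} : Set G)) := by
    intro c
    obtain ⟨u, hu⟩ : ∃ u : G, u = c * v * c⁻¹ := ⟨_, rfl⟩
    rw [← hu]
    have huu : u * u = 1 := by
      rw [hu]
      have : c * v * c⁻¹ * (c * v * c⁻¹) = c * (v * v) * c⁻¹ := by group
      rw [this, hvv]; group
    have huinv : u⁻¹ = u := inv_eq_of_mul_eq_one_left huu
    obtain ⟨d, hd⟩ : ∃ d : G, d = v * u := ⟨_, rfl⟩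
    have hinv : v * d * v⁻¹ = d⁻¹ := by
      rw [hd, mul_inv_rev, huinv, hvinv, ← mul_assoc, hvv, one_mul]
    have hn0 : orderOf d ≠ 0 := (orderOf_pos d).ne'
    obtain ⟨k, m, hm, hkm⟩ := Nat.exists_eq_two_pow_mul_odd hn0
    have hord : orderOf (d ^ 2 ^ k) = m := by
      rw [orderOf_pow_of_dvd (by positivity) ⟨m, hkm⟩, hkm]
      exact Nat.mul_div_cancel_left m (by positivity)
    have hinv2 : v * d ^ 2 ^ k * v⁻¹ = (d ^ 2 ^ k)⁻¹ := by
      rw [← conj_pow, hinv, inv_pow]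
    have h1 : d ^ 2 ^ k = 1 := h _ (by rw [hord]; exact hm) hinv2
    have hdvd : orderOf d ∣ 2 ^ k := orderOf_dvd_of_pow_eq_one h1
    obtain ⟨j, _, hj⟩ := (Nat.dvd_prime_pow Nat.prime_two).mp hdvd
    have hP := Cfsg.Agent.Lib.Lead.isPGroup_sup_zpowers_of_invert v d hv j hj hinv
    refine hP.to_le ?_
    rw [Subgroup.closure_le]
    intro z hz
    rcases hz with rfl | hz
    · exact Cfsg.Agent.Lib.Lead.mem_sup_zpowers_right z d
    · rw [Set.mem_singleton_iff] at hz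
      subst hz
      have e : z = v⁻¹ * d := by rw [hd]; group
      rw [e]
      exact Subgroup.mul_mem _ (Subgroup.inv_mem _ (Cfsg.Agent.Lib.Lead.mem_sup_zpowers_right v d))
        (Cfsg.Agent.Lib.Lead.mem_sup_zpowers_left v d)
  have hK2 : ∀ x ∈ K, ∀ y ∈ K, IsPGroup 2 (Subgroup.closure ({x, y} : Set G)) := by
    rintro x ⟨g, rfl⟩ y ⟨h', rfl⟩
    obtain ⟨c, hc⟩ : ∃ c : G, c = g⁻¹ * h' := ⟨_, rfl⟩
    have h3 := hpair c
    have h4 : Subgroup.closure ({g * v * g⁻¹, h' * v * h'⁻¹} : Set G) =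
        (Subgroup.closure ({v, c * v * c⁻¹} : Set G)).map (MulAut.conj g).toMonoidHom := by
      rw [MonoidHom.map_closure, Set.image_pair]
      have e1 : (MulAut.conj g).toMonoidHom v = g * v * g⁻¹ := rfl
      have e2 : (MulAut.conj g).toMonoidHom (c * v * c⁻¹) = h' * v * h'⁻¹ := by
        show g * (c * v * c⁻¹) * g⁻¹ = h' * v * h'⁻¹
        rw [hc]; group
      rw [e1, e2]
    rw [h4]
    exact h3.map _
  have hp := Cfsg.Agent.Lib.Lead.baer_suzuki_elt K hKn hK2
  have hnorm := Cfsg.Agent.Lib.Lead.closure_normal_of_conj_invariant K hKn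
  have hle : Subgroup.closure K ≤ Cfsg.pCore 2 G := Cfsg.Agent.Lib.Helper4.le_pCore hnorm hp
  exact hle (Subgroup.subset_closure ⟨1, by group⟩)

end Cfsg.Agent.Lib.Helper2.InvOdd
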