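import Mathlib

/-!
# Transfer of a central involution of a `2`-subgroup of odd index

`involution_transfer`: `S ≤ G` a `2`-subgroup of odd index, `M ≤ S` of index `2`, `z` an involution
of `Z(S)` outside `M` that is centralised by `N_G(S)`. Then `G` has a subgroup of index `2` not
containing `z` (kernel of the transfer into `S/M`). `involution_transfer'` only needs that no
`N_G(S)`-conjugate of `z` lies in `M`.
-/

set_option autoImplicit false

namespace Cfsg.Agent.Lib.Helper2.InvTransfer

theorem involution_transfer' {G : Type*} [Group G] [Finite G] (S M : Subgroup G)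
    (hS : IsPGroup 2 S) (hodd : Odd S.index) (hM : M.relIndex S = 2) (z : G) (hz : z * z = 1)
    (hzS : z ∈ S) (hcent : ∀ s ∈ S, s * z = z * s)
    (hN : ∀ g ∈ Subgroup.normalizer (S : Set G), g⁻¹ * z * g ∉ M) :
    ∃ N : Subgroup G, N.index = 2 ∧ z ∉ N := by
  classical
  have hM' : (M.subgroupOf S).index = 2 := hM
  let ψ : S →* ℤˣ :=
    { toFun := fun s => if (s : G) ∈ M then 1 else -1
      map_one' := by simp [M.one_mem]
      map_mul' := fun a b => by
        have h := Subgroup.mul_mem_iff_of_index_two hM' (a := a) (b := b)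
        simp only [Subgroup.mem_subgroupOf, Subgroup.coe_mul] at h
        by_cases ha : (a : G) ∈ M <;> by_cases hb : (b : G) ∈ M <;> simp [ha, hb, h] }
  have hψ : ∀ s : S, ψ s = if (s : G) ∈ M then 1 else -1 := fun s => rfl
  have hψM : ∀ s : S, (s : G) ∈ M ↔ ψ s = 1 := by
    intro s; rw [hψ]; by_cases h : (s : G) ∈ M <;> simp [h]
  have hconjS : ∀ (u h : G), h ∈ S → (h⁻¹ * u * h ∈ S ↔ u ∈ S) := by
    intro u h hh
    constructor
    · intro h1
      have e : u = h * (h⁻¹ * u * h) * h⁻¹ := by group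
      rw [e]; exact S.mul_mem (S.mul_mem hh h1) (S.inv_mem hh)
    · intro h1; exact S.mul_mem (S.mul_mem (S.inv_mem hh) h1) hh
  have hconjM : ∀ (u h : G), h ∈ S → u ∈ S → (h⁻¹ * u * h ∈ M ↔ u ∈ M) := by
    intro u h hh hu
    have h3 : ψ ⟨h⁻¹ * u * h, S.mul_mem (S.mul_mem (S.inv_mem hh) hu) hh⟩ = ψ ⟨u, hu⟩ := by
      have e : (⟨h⁻¹ * u * h, S.mul_mem (S.mul_mem (S.inv_mem hh) hu) hh⟩ : S) =
          (⟨h, hh⟩ : S)⁻¹ * ⟨u, hu⟩ * ⟨h, hh⟩ := rfl
      rw [e, map_mul, map_mul, map_inv, mul_comm, mul_inv_cancel_left]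
    have h1 := hψM ⟨h⁻¹ * u * h, S.mul_mem (S.mul_mem (S.inv_mem hh) hu) hh⟩
    have h2 := hψM ⟨u, hu⟩
    rw [h3] at h1
    exact h1.trans h2.symm
  obtain ⟨Pc, hPc⟩ : ∃ Pc : G → Prop, ∀ x, Pc x ↔ (x⁻¹ * z * x ∈ S ∧ x⁻¹ * z * x ∉ M) :=
    ⟨_, fun _ => Iff.rfl⟩
  have hPc_right : ∀ x h : G, h ∈ S → (Pc (x * h) ↔ Pc x) := by
    intro x h hh
    rw [hPc, hPc]
    have e : (x * h)⁻¹ * z * (x * h) = h⁻¹ * (x⁻¹ * z * x) * h := by group
    rw [e, hconjS _ _ hh]
    constructor
    · rintro ⟨h1, h2⟩
      exact ⟨h1, fun h3 => h2 ((hconjM _ _ hh h1).mpr h3)⟩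
    · rintro ⟨h1, h2⟩
      exact ⟨h1, fun h3 => h2 ((hconjM _ _ hh h1).mp h3)⟩
  have hPc_left : ∀ s x : G, s ∈ S → (Pc (s * x) ↔ Pc x) := by
    intro s x hs
    rw [hPc, hPc]
    have e : (s * x)⁻¹ * z * (s * x) = x⁻¹ * z * x := by
      have h1 := hcent s hs
      calc (s * x)⁻¹ * z * (s * x) = x⁻¹ * (s⁻¹ * (z * s)) * x := by group
        _ = x⁻¹ * (s⁻¹ * (s * z)) * x := by rw [h1]
        _ = x⁻¹ * z * x := by group
    rw [e]
  have hPc_out : ∀ x : G, Pc ((x : G ⧸ S)).out ↔ Pc x := by
    intro x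
    obtain ⟨h, hh⟩ := QuotientGroup.mk_out_eq_mul S x
    rw [hh, hPc_right _ _ h.2]
  have hfix : ∀ x : G, (z • (x : G ⧸ S) = (x : G ⧸ S)) ↔ x⁻¹ * z * x ∈ S := by
    intro x
    have e : z • (x : G ⧸ S) = ((z * x : G) : G ⧸ S) := rfl
    rw [e, QuotientGroup.eq]
    have e2 : (z * x)⁻¹ * x = (x⁻¹ * z * x)⁻¹ := by group
    rw [e2, inv_mem_iff]
  obtain ⟨val, hval⟩ : ∃ val : G ⧸ S → ℤˣ, ∀ c, val c = if Pc c.out then -1 else 1 :=
    ⟨_, fun _ => rfl⟩
  have : S.FiniteIndex := inferInstance
  let _ : Fintype (G ⧸ S) := Fintype.ofFinite _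
  -- parity of the number of special cosets
  have hodd' : Odd (Finset.univ.filter (fun c : G ⧸ S => Pc c.out)).card := by
    let F1 : SubMulAction ↥S (G ⧸ S) :=
      { carrier := {c | ¬ Pc c.out}
        smul_mem' := by
          intro s c hc hP
          apply hc
          have e : s • c = (((s : G) * c.out : G) : G ⧸ S) := by
            conv_lhs => rw [← QuotientGroup.out_eq' c]
            rfl
          rw [e, hPc_out, hPc_left _ _ s.2] at hP
          exact hP }
    have h1 := hS.card_modEq_card_fixedPoints (↥F1)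
    have hempty : IsEmpty (MulAction.fixedPoints ↥S ↥F1) := by
      constructor
      rintro ⟨⟨c, hc⟩, hfix'⟩
      apply hc
      have hcfix : c ∈ MulAction.fixedPoints ↥S (G ⧸ S) := by
        intro s
        have := congrArg Subtype.val (hfix' s)
        exact this
      rw [← QuotientGroup.out_eq' c] at hcfix
      have hn := Sylow.mem_fixedPoints_mul_left_cosets_iff_mem_normalizer.mp hcfix
      rw [hPc]
      refine ⟨?_, hN _ hn⟩
      have h4 := (Subgroup.mem_normalizer_iff.mp (inv_mem hn) z).mp hzS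
      rw [inv_inv] at h4
      exact h4
    have h0 : Nat.card (MulAction.fixedPoints ↥S ↥F1) = 0 := Nat.card_of_isEmpty
    rw [h0] at h1
    have h2 : Nat.card ↥F1 = (Finset.univ.filter (fun c : G ⧸ S => ¬ Pc c.out)).card := by
      have e : Nat.card ↥F1 = Nat.card {c : G ⧸ S // ¬ Pc c.out} := rfl
      rw [e, Nat.card_eq_fintype_card, Fintype.card_subtype]
    have h3 := Finset.card_filter_add_card_filter_not (s := (Finset.univ : Finset (G ⧸ S)))
      (fun c : G ⧸ S => Pc c.out)
    have h4 : (Finset.univ : Finset (G ⧸ S)).card = S.index := by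
      rw [Finset.card_univ, Subgroup.index_eq_card, Nat.card_eq_fintype_card]
    rw [h4] at h3
    rw [h2] at h1
    have h5 : (Finset.univ.filter (fun c : G ⧸ S => ¬ Pc c.out)).card % 2 = 0 := h1
    have h6 : S.index % 2 = 1 := Nat.odd_iff.mp hodd
    rw [Nat.odd_iff]
    omega
  have key : MonoidHom.transfer ψ z = -1 := by
    let _ : Fintype (Quotient (MulAction.orbitRel (Subgroup.zpowers z) (G ⧸ S))) :=
      Fintype.ofFinite _
    rw [MonoidHom.transfer_eq_prod_quotient_orbitRel_zpowers_quot]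
    have hfac : ∀ q : Quotient (MulAction.orbitRel (Subgroup.zpowers z) (G ⧸ S)),
        ψ ⟨q.out.out⁻¹ * z ^ Function.minimalPeriod (z • ·) q.out * q.out.out,
          QuotientGroup.out_conj_pow_minimalPeriod_mem S z q.out⟩ = val q.out := by
      intro q
      have hmem := QuotientGroup.out_conj_pow_minimalPeriod_mem S z q.out
      have hdvd : Function.minimalPeriod (z • ·) q.out ∣ 2 := by
        apply Function.IsPeriodicPt.minimalPeriod_dvd
        rw [Function.IsPeriodicPt, Function.IsFixedPt, smul_iterate, pow_two, hz]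
        exact one_smul _ _
      have hcases : Function.minimalPeriod (z • ·) q.out = 1 ∨
          Function.minimalPeriod (z • ·) q.out = 2 := (Nat.dvd_prime Nat.prime_two).mp hdvd
      rw [hψ, hval]
      show (if q.out.out⁻¹ * z ^ Function.minimalPeriod (z • ·) q.out * q.out.out ∈ M
        then (1 : ℤˣ) else -1) = if Pc q.out.out then -1 else 1
      rcases hcases with h1 | h2
      · rw [h1, pow_one] at hmem
        rw [h1, pow_one]
        by_cases hm : q.out.out⁻¹ * z * q.out.out ∈ M
        · rw [if_pos hm, if_neg (fun h => ((hPc _).mp h).2 hm)]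
        · rw [if_neg hm, if_pos ((hPc _).mpr ⟨hmem, hm⟩)]
      · have hnot : ¬ Pc q.out.out := by
          intro hP
          have h3 := (hfix q.out.out).mpr ((hPc _).mp hP).1
          rw [QuotientGroup.out_eq'] at h3
          have h4 : Function.minimalPeriod (z • ·) q.out = 1 :=
            Function.minimalPeriod_eq_one_iff_isFixedPt.mpr h3
          omega
        rw [h2, pow_two, hz, mul_one, inv_mul_cancel, if_pos M.one_mem, if_neg hnot]
    rw [Finset.prod_congr rfl (fun q _ => hfac q)]
    have hB : ∏ q : Quotient (MulAction.orbitRel (Subgroup.zpowers z) (G ⧸ S)), val q.out =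
        ∏ c : G ⧸ S, val c := by
      apply Finset.prod_bij_ne_one (fun q _ _ => q.out)
      · intro a _ _; exact Finset.mem_univ _
      · intro a₁ _ _ a₂ _ _ h; exact Quotient.out_injective h
      · intro b _ hb
        have hP : Pc b.out := by
          by_contra hP
          apply hb
          rw [hval, if_neg hP]
        have hfx : z • b = b := by
          have h3 := (hfix b.out).mpr ((hPc _).mp hP).1
          rwa [QuotientGroup.out_eq'] at h3
        have hout : (Quotient.mk'' b :
            Quotient (MulAction.orbitRel (Subgroup.zpowers z) (G ⧸ S))).out = b := by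
          have h4 := Quotient.mk_out' (s₁ := MulAction.orbitRel (Subgroup.zpowers z) (G ⧸ S)) b
          obtain ⟨g, hg⟩ := h4
          have hstab : (g : G) ∈ MulAction.stabilizer G b :=
            (Subgroup.zpowers_le.mpr (show z ∈ MulAction.stabilizer G b from hfx)) g.2
          have h5 : (g : G) • b = b := MulAction.mem_stabilizer_iff.mp hstab
          have h6 : g • b = (g : G) • b := rfl
          rw [← hg]
          show g • b = b
          rw [h6, h5]
        refine ⟨Quotient.mk'' b, Finset.mem_univ _, ?_, hout⟩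
        rw [hout]; exact hb
      · intro a _ _; rfl
    rw [hB]
    have hC : ∏ c : G ⧸ S, val c =
        (-1 : ℤˣ) ^ (Finset.univ.filter (fun c : G ⧸ S => Pc c.out)).card := by
      rw [Finset.prod_congr rfl (fun c _ => hval c), Finset.prod_ite, Finset.prod_const_one,
        mul_one, Finset.prod_const]
    rw [hC, hodd'.neg_one_pow]
  refine ⟨(MonoidHom.transfer ψ).ker, ?_, ?_⟩
  · rw [Subgroup.index_ker]
    have : (MonoidHom.transfer ψ).range = ⊤ := by
      rw [eq_top_iff]
      intro u _
      rcases Int.units_eq_one_or u with rfl | rfl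
      · exact Subgroup.one_mem _
      · exact ⟨z, key⟩
    rw [this, Subgroup.card_top, Nat.card_eq_fintype_card, Fintype.card_units_int]
  · rw [MonoidHom.mem_ker, key]; decide

theorem involution_transfer {G : Type*} [Group G] [Finite G] (S M : Subgroup G)
    (hS : IsPGroup 2 S) (hodd : Odd S.index) (hM : M.relIndex S = 2) (z : G) (hz : z * z = 1)
    (hzS : z ∈ S) (hzM : z ∉ M) (hcent : ∀ s ∈ S, s * z = z * s)
    (hN : ∀ g ∈ Subgroup.normalizer (S : Set G), g⁻¹ * z * g = z) :
    ∃ N : Subgroup G, N.index = 2 ∧ z ∉ N :=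
  involution_transfer' S M hS hodd hM z hz hzS hcent (fun g hg => by rw [hN g hg]; exact hzM)

end Cfsg.Agent.Lib.Helper2.InvTransfer
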