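import Mathlib
import Cfsg.Agent.Lib.Helper2.Fpf

/-!
# Splitting endomorphisms of prime exponent: norms, twists and the twisted trace lemma (helper2)
-/

set_option autoImplicit false
open scoped Pointwise IsMulCommutative

namespace Cfsg.Agent.Lib.Helper2.Fpf

universe u

variable {G : Type u} [Group G]

/-- the norm-type product `x * φ x * ... * φ^(k-1) x` -/
def Nk (φ : G →* G) (x : G) : ℕ → G
  | 0 => 1
  | (k + 1) => x * φ (Nk φ x k)

theorem Nk_zero (φ : G →* G) (x : G) : Nk φ x 0 = 1 := rfl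

theorem Nk_succ (φ : G →* G) (x : G) (k : ℕ) : Nk φ x (k + 1) = x * φ (Nk φ x k) := rfl

theorem Nk_succ' (φ : G →* G) (x : G) (k : ℕ) : Nk φ x (k + 1) = Nk φ x k * φ^[k] x := by
  induction k with
  | zero => simp [Nk]
  | succ k ih =>
    calc Nk φ x (k + 1 + 1) = x * φ (Nk φ x (k + 1)) := rfl
      _ = x * φ (Nk φ x k * φ^[k] x) := by rw [ih]
      _ = x * φ (Nk φ x k) * φ (φ^[k] x) := by rw [map_mul, mul_assoc]
      _ = Nk φ x (k + 1) * φ^[k + 1] x := by rw [Function.iterate_succ_apply']; rfl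

theorem Nk_fixed (φ : G →* G) (x : G) (hx : φ x = x) (k : ℕ) : Nk φ x k = x ^ k := by
  induction k with
  | zero => simp [Nk]
  | succ k ih => rw [Nk_succ, ih, map_pow, hx, pow_succ']

theorem Nk_eq_list (φ : G →* G) (x : G) (k : ℕ) :
    ((List.range k).map (fun i => φ^[i] x)).prod = Nk φ x k := by
  induction k with
  | zero => rfl
  | succ k ih => rw [List.range_succ, List.map_append, List.prod_append, ih, Nk_succ']; simp

/-- twist of `φ` by an inner automorphism -/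
def tw (φ : G →* G) (g : G) : G →* G := (MulAut.conj g).toMonoidHom.comp φ

theorem tw_apply (φ : G →* G) (g x : G) : tw φ g x = g * φ x * g⁻¹ := rfl

theorem tw_iter (φ : G →* G) (g x : G) (k : ℕ) :
    (tw φ g)^[k] x = Nk φ g k * φ^[k] x * (Nk φ g k)⁻¹ := by
  induction k with
  | zero => simp [Nk]
  | succ k ih =>
    rw [Function.iterate_succ_apply', ih, tw_apply, Nk_succ, Function.iterate_succ_apply']
    simp only [map_mul, map_inv]; group

theorem Nk_tw_mul (φ : G →* G) (g x : G) (k : ℕ) :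
    Nk (tw φ g) x k * Nk φ g k = Nk φ (x * g) k := by
  induction k with
  | zero => simp [Nk]
  | succ k ih =>
    rw [Nk_succ, Nk_succ, Nk_succ, ← ih, tw_apply]
    simp only [map_mul]; group

/-- `φ` is a splitting endomorphism of exponent `p` -/
def Split (φ : G →* G) (p : ℕ) : Prop := (∀ x, φ^[p] x = x) ∧ ∀ x, Nk φ x p = 1

theorem Split.tw {φ : G →* G} {p : ℕ} (h : Split φ p) (g : G) : Split (tw φ g) p := by
  refine ⟨fun x => ?_, fun x => ?_⟩
  · rw [tw_iter, h.2 g, h.1 x]; simp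
  · have h1 := Nk_tw_mul φ g x p
    rw [h.2 g, h.2 (x * g), mul_one] at h1
    exact h1

theorem Split.pow_eq_one {φ : G →* G} {p : ℕ} (h : Split φ p) (x : G) (hx : φ x = x) :
    x ^ p = 1 := by
  rw [← Nk_fixed φ x hx p]; exact h.2 x

theorem Nk_res (φ : G →* G) (H : Subgroup G) (hH : ∀ x ∈ H, φ x ∈ H) (x : H) (k : ℕ) :
    ((Nk (res φ H hH) x k : H) : G) = Nk φ x k := by
  induction k with
  | zero => rfl
  | succ k ih => rw [Nk_succ, Nk_succ, Subgroup.coe_mul, res_coe, ih]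

theorem Split.res {φ : G →* G} {p : ℕ} (h : Split φ p) (H : Subgroup G)
    (hH : ∀ x ∈ H, φ x ∈ H) : Split (res φ H hH) p :=
  ⟨fun x => Subtype.ext (by rw [res_iter, h.1]),
    fun x => Subtype.ext (by rw [Nk_res, h.2]; rfl)⟩

theorem Nk_quo (φ : G →* G) (N : Subgroup G) [N.Normal] (hN : ∀ x ∈ N, φ x ∈ N) (x : G)
    (k : ℕ) : Nk (quo φ N hN) (x : G ⧸ N) k = ((Nk φ x k : G) : G ⧸ N) := by
  induction k with
  | zero => rfl
  | succ k ih => rw [Nk_succ, Nk_succ, ih, quo_mk]; rfl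

theorem Split.quo {φ : G →* G} {p : ℕ} (h : Split φ p) (N : Subgroup G) [N.Normal]
    (hN : ∀ x ∈ N, φ x ∈ N) : Split (quo φ N hN) p := by
  refine ⟨fun y => ?_, fun y => ?_⟩
  · obtain ⟨x, rfl⟩ := QuotientGroup.mk_surjective y
    rw [quo_iter, h.1]
  · obtain ⟨x, rfl⟩ := QuotientGroup.mk_surjective y
    rw [Nk_quo, h.2]; rfl

theorem Nk_comm_prod {M : Type*} [CommGroup M] (ψ : M →* M) (x : M) (k : ℕ) :
    Nk ψ x k = ∏ i ∈ Finset.range k, ψ^[i] x := by
  induction k with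
  | zero => simp [Nk]
  | succ k ih =>
    rw [Nk_succ, ih, map_prod, Finset.prod_range_succ', mul_comm]
    simp [Function.iterate_succ_apply']

/-- **twisted trace lemma**: `v ^ |A|` is centralized by `A` -/
theorem twisted_trace [Finite G] (φ : G →* G) {p : ℕ} (hp : p.Prime) (hφ : Split φ p)
    (N A : Subgroup G) [hNn : N.Normal] [IsMulCommutative N] (hNφ : ∀ x ∈ N, φ x ∈ N)
    (hAmem : ∀ k, ∀ c ∈ A, Nk φ c k ∈ A)
    (hAinj : ∀ k, 0 < k → k < p → ∀ c ∈ A, ∀ d ∈ A, Nk φ c k = Nk φ d k → c = d)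
    (v : G) (hv : v ∈ N) (a : G) (ha : a ∈ A) :
    a * v ^ Nat.card A = v ^ Nat.card A * a := by
  classical
  haveI : Fintype A := Fintype.ofFinite A
  have hNtw : ∀ c : G, ∀ x ∈ N, tw φ c x ∈ N := by
    intro c x hx
    rw [tw_apply]
    exact hNn.conj_mem _ (hNφ x hx) c
  have hP1 : ∀ (c : G) (w : N), ∏ k ∈ Finset.range p,
      MulAut.conjNormal (Nk φ c k) ((res φ N hNφ)^[k] w) = 1 := by
    intro c w
    have h1 : Nk (res (tw φ c) N (hNtw c)) w p = 1 :=
      Subtype.ext (by rw [Nk_res, (hφ.tw c).2]; rfl)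
    rw [Nk_comm_prod] at h1
    rw [← h1]
    apply Finset.prod_congr rfl
    intro k _
    apply Subtype.ext
    rw [MulAut.conjNormal_apply, res_iter, res_iter, tw_iter]
  have hTinv : ∀ (w : N) (b : G), b ∈ A →
      MulAut.conjNormal b (∏ a' : A, MulAut.conjNormal (a' : G) w)
        = ∏ a' : A, MulAut.conjNormal (a' : G) w := by
    intro w b hb
    rw [map_prod]
    have h0 : ∀ a' : A, (MulAut.conjNormal b : N ≃* N) (MulAut.conjNormal (a' : G) w)
          = MulAut.conjNormal (((⟨b, hb⟩ : A) * a' : A) : G) w := by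
      intro a'
      rw [Subgroup.coe_mul, map_mul]; rfl
    simp_rw [h0]
    exact Fintype.prod_equiv (Equiv.mulLeft (⟨b, hb⟩ : A)) _ _ (fun a' => rfl)
  have hP2 : ∀ k, 0 < k → k < p → ∀ w : N,
      ∏ c : A, MulAut.conjNormal (Nk φ (c : G) k) w = ∏ a' : A, MulAut.conjNormal (a' : G) w := by
    intro k hk0 hkp w
    let β : A → A := fun c => ⟨Nk φ (c : G) k, hAmem k _ c.2⟩
    have hβ : Function.Bijective β := by
      rw [← Finite.injective_iff_bijective]
      intro c d hcd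
      exact Subtype.ext (hAinj k hk0 hkp _ c.2 _ d.2 (congrArg Subtype.val hcd))
    exact Function.Bijective.prod_comp hβ (fun a' : A => MulAut.conjNormal (a' : G) w)
  obtain ⟨p', rfl⟩ : ∃ p', p = p' + 1 := ⟨p - 1, by have := hp.pos; omega⟩
  have hmain : ∏ c : A, ∏ k ∈ Finset.range (p' + 1),
      MulAut.conjNormal (Nk φ (c : G) k) ((res φ N hNφ)^[k] (⟨v, hv⟩ : N)) = 1 := by
    apply Finset.prod_eq_one; intro c _; exact hP1 c ⟨v, hv⟩
  rw [Finset.prod_comm, Finset.prod_range_succ'] at hmain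
  have h0 : ∏ c : A, MulAut.conjNormal (Nk φ (c : G) 0)
      ((res φ N hNφ)^[0] (⟨v, hv⟩ : N)) = (⟨v, hv⟩ : N) ^ Nat.card A := by
    have h00 : ∀ c : A, MulAut.conjNormal (Nk φ (c : G) 0)
        ((res φ N hNφ)^[0] (⟨v, hv⟩ : N)) = ⟨v, hv⟩ := by
      intro c; apply Subtype.ext; rw [MulAut.conjNormal_apply]; simp [Nk]
    simp_rw [h00]
    rw [Finset.prod_const, Finset.card_univ, ← Nat.card_eq_fintype_card]
  rw [h0] at hmain
  have h1 : ∀ k ∈ Finset.range p', ∏ c : A, MulAut.conjNormal (Nk φ (c : G) (k + 1))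
      ((res φ N hNφ)^[k + 1] (⟨v, hv⟩ : N))
      = ∏ a' : A, MulAut.conjNormal (a' : G) ((res φ N hNφ)^[k + 1] (⟨v, hv⟩ : N)) := by
    intro k hk
    exact hP2 (k + 1) (Nat.succ_pos k) (by have := Finset.mem_range.mp hk; omega) _
  rw [Finset.prod_congr rfl h1] at hmain
  have h2 : (⟨v, hv⟩ : N) ^ Nat.card A = (∏ k ∈ Finset.range p', ∏ a' : A,
      MulAut.conjNormal (a' : G) ((res φ N hNφ)^[k + 1] (⟨v, hv⟩ : N)))⁻¹ :=
    eq_inv_of_mul_eq_one_right hmain
  have h3 : MulAut.conjNormal a ((⟨v, hv⟩ : N) ^ Nat.card A) = (⟨v, hv⟩ : N) ^ Nat.card A := by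
    rw [h2, map_inv, map_prod]
    congr 1
    apply Finset.prod_congr rfl
    intro k _
    exact hTinv _ a ha
  have h4 := congrArg Subtype.val h3
  rw [MulAut.conjNormal_apply, Subgroup.coe_pow] at h4
  calc a * v ^ Nat.card A = (a * v ^ Nat.card A * a⁻¹) * a := by group
    _ = v ^ Nat.card A * a := by rw [h4]

/-- consequence: under coprimality, `A` centralizes `N` -/
theorem centralizes_of_twisted [Finite G] (φ : G →* G) {p : ℕ} (hp : p.Prime) (hφ : Split φ p)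
    (N A : Subgroup G) [hNn : N.Normal] [IsMulCommutative N] (hNφ : ∀ x ∈ N, φ x ∈ N)
    (hAmem : ∀ k, ∀ c ∈ A, Nk φ c k ∈ A)
    (hAinj : ∀ k, 0 < k → k < p → ∀ c ∈ A, ∀ d ∈ A, Nk φ c k = Nk φ d k → c = d)
    (hcop : (Nat.card A).Coprime (Nat.card N)) :
    ∀ v ∈ N, ∀ a ∈ A, a * v = v * a := by
  intro v hv a ha
  obtain ⟨w, hw⟩ := (powCoprime hcop.symm).surjective (⟨v, hv⟩ : N)
  have h1 : v = (w : G) ^ Nat.card A := by
    have h2 := congrArg Subtype.val hw
    rw [powCoprime_apply, Subgroup.coe_pow] at h2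
    exact h2.symm
  rw [h1]
  exact twisted_trace φ hp hφ N A hNφ hAmem hAinj w w.2 a ha

/-- norms on a pointwise fixed `p`-subgroup -/
theorem fixed_norm_data (φ : G →* G) {p : ℕ} [Fact p.Prime] (A : Subgroup G) [Finite A]
    (hAp : IsPGroup p A) (hAfix : ∀ c ∈ A, φ c = c) :
    (∀ k, ∀ c ∈ A, Nk φ c k ∈ A) ∧
    (∀ k, 0 < k → k < p → ∀ c ∈ A, ∀ d ∈ A, Nk φ c k = Nk φ d k → c = d) := by
  have hp : p.Prime := Fact.out
  refine ⟨fun k c hc => ?_, fun k hk0 hkp c hc d hd h => ?_⟩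
  · rw [Nk_fixed φ c (hAfix c hc)]; exact A.pow_mem hc k
  · rw [Nk_fixed φ c (hAfix c hc), Nk_fixed φ d (hAfix d hd)] at h
    obtain ⟨i, hi⟩ := IsPGroup.iff_card.mp hAp
    have hcop : (Nat.card A).Coprime k := by
      rw [hi]
      exact Nat.Coprime.pow_left i
        ((Nat.Prime.coprime_iff_not_dvd hp).2 (Nat.not_dvd_of_pos_of_lt hk0 hkp))
    have h2 : (powCoprime hcop) ⟨c, hc⟩ = (powCoprime hcop) ⟨d, hd⟩ := by
      apply Subtype.ext
      rw [powCoprime_apply, powCoprime_apply, Subgroup.coe_pow, Subgroup.coe_pow]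
      exact h
    exact congrArg Subtype.val ((powCoprime hcop).injective h2)

/-- norms on an abelian invariant subgroup on which `φ` is fixed-point-free -/
theorem fpf_norm_data (φ : G →* G) {p : ℕ} (hp : p.Prime) (hφ : Split φ p) (A : Subgroup G)
    (hAφ : ∀ c ∈ A, φ c ∈ A) (hAcomm : ∀ c ∈ A, ∀ d ∈ A, c * d = d * c)
    (hAfpf : ∀ c ∈ A, φ c = c → c = 1) :
    (∀ k, ∀ c ∈ A, Nk φ c k ∈ A) ∧
    (∀ k, 0 < k → k < p → ∀ c ∈ A, ∀ d ∈ A, Nk φ c k = Nk φ d k → c = d) := by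
  have hmem : ∀ k, ∀ c ∈ A, Nk φ c k ∈ A := by
    intro k
    induction k with
    | zero => intro c _; exact A.one_mem
    | succ k ih => intro c hc; rw [Nk_succ]; exact A.mul_mem hc (hAφ _ (ih c hc))
  have hmul : ∀ k, ∀ c ∈ A, ∀ d ∈ A, Nk φ (c * d) k = Nk φ c k * Nk φ d k := by
    intro k
    induction k with
    | zero => intro c _ d _; simp [Nk]
    | succ k ih =>
      intro c hc d hd
      rw [Nk_succ, Nk_succ, Nk_succ, ih c hc d hd, map_mul]
      have h1 : d * φ (Nk φ c k) = φ (Nk φ c k) * d := hAcomm d hd _ (hAφ _ (hmem k c hc))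
      calc c * d * (φ (Nk φ c k) * φ (Nk φ d k))
          = c * (d * φ (Nk φ c k)) * φ (Nk φ d k) := by group
        _ = c * (φ (Nk φ c k) * d) * φ (Nk φ d k) := by rw [h1]
        _ = c * φ (Nk φ c k) * (d * φ (Nk φ d k)) := by group
  have hker : ∀ k, 0 < k → k < p → ∀ c ∈ A, Nk φ c k = 1 → c = 1 := by
    intro k hk0 hkp c hc h
    have h1 : Nk φ c (k + 1) = c := by rw [Nk_succ, h, map_one, mul_one]
    have h2 : φ^[k] c = c := by
      have h3 := Nk_succ' φ c k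
      rw [h1, h, one_mul] at h3
      exact h3.symm
    have hfpf : MonoidHom.FixedPointFree (res φ A hAφ) := by
      intro x hx
      have h4 := hAfpf x x.2 (by rw [← res_coe φ A hAφ x, hx])
      exact Subtype.ext h4
    have h5 := iter_fixed_one (res φ A hAφ) hfpf hp (hφ.res A hAφ).1 hk0 hkp ⟨c, hc⟩
      (Subtype.ext (by rw [res_iter]; exact h2))
    exact congrArg Subtype.val h5
  refine ⟨hmem, fun k hk0 hkp c hc d hd h => ?_⟩
  have h1 : Nk φ (c * d⁻¹) k * Nk φ d k = Nk φ c k := by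
    rw [← hmul k _ (A.mul_mem hc (A.inv_mem hd)) d hd, inv_mul_cancel_right]
  have h2 : Nk φ (c * d⁻¹) k = 1 := by
    rw [h] at h1
    exact mul_eq_right.mp h1
  have h3 := hker k hk0 hkp _ (A.mul_mem hc (A.inv_mem hd)) h2
  exact mul_inv_eq_one.mp h3

end Cfsg.Agent.Lib.Helper2.Fpf
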