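import Mathlib
import Cfsg.Agent.Lib.Helper2.Kegel
import Cfsg.Agent.Lib.Helper2.Fpf2

/-!
# Kegel's theorem: a finite group with a splitting automorphism of prime order is nilpotent
(helper2).  Generalizes Thompson's theorem on fixed-point-free automorphisms of prime order.
-/

set_option autoImplicit false
open scoped Pointwise IsMulCommutative

namespace Cfsg.Agent.Lib.Helper2.Fpf

universe u

theorem tw_bijective {G : Type u} [Group G] (φ : G →* G) (hbij : Function.Bijective φ) (g : G) :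
    Function.Bijective (tw φ g) := by
  show Function.Bijective (⇑(MulAut.conj g) ∘ ⇑φ)
  exact (MulAut.conj g).bijective.comp hbij

/-- some inner twist of `φ` normalizes a given Sylow subgroup -/
theorem exists_tw_sylow {G : Type u} [Group G] [Finite G] (φ : G →* G)
    (hbij : Function.Bijective φ) {q : ℕ} [Fact q.Prime] (Q : Sylow q G) :
    ∃ g : G, (Q : Subgroup G).map (tw φ g) = Q := by
  obtain ⟨g, hg⟩ := MulAction.exists_smul_eq G (Q.mapSurjective hbij.2) Q
  refine ⟨g, map_eq_of_inv (tw φ g) (tw_bijective φ hbij g).1 _ ?_⟩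
  intro x hx
  rw [tw_apply]
  have h1 : φ x ∈ ((Q.mapSurjective hbij.2 : Sylow q G) : Subgroup G) := by
    rw [Sylow.coe_mapSurjective]; exact Subgroup.mem_map_of_mem _ hx
  have h2 : g * φ x * g⁻¹ ∈ ((g • (Q.mapSurjective hbij.2) : Sylow q G) : Subgroup G) := by
    rw [Cfsg.Agent.Lib.Helper2.mem_smul_sylow]
    have e : g⁻¹ * (g * φ x * g⁻¹) * g = φ x := by group
    rw [e]; exact h1
  rw [hg] at h2
  exact h2

/-- a minimal non-nilpotent group with a splitting `φ` has a nontrivial invariant normal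
nilpotent subgroup -/
theorem exists_normal_nilpotent' {G : Type u} [Group G] [Finite G] (φ : G →* G)
    (hbij : Function.Bijective φ)
    (hsub : ∀ (H : Subgroup G) (g : G), H ≠ ⊤ → (∀ x ∈ H, tw φ g x ∈ H) →
      Group.IsNilpotent H)
    (hnil : ¬ Group.IsNilpotent G) :
    ∃ M : Subgroup G, M.Normal ∧ (∀ x ∈ M, φ x ∈ M) ∧ M ≠ ⊥ ∧ Group.IsNilpotent M := by
  have hq : ∃ q : ℕ, q.Prime ∧ q ≠ 2 ∧ q ∣ Nat.card G := by
    by_contra hcon
    push_neg at hcon
    apply hnil
    have h2 : ∀ {d : ℕ}, d.Prime → d ∣ Nat.card G → d = 2 := by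
      intro d hd hdvd
      by_contra hne
      exact hcon d hd hne hdvd
    have hcard := Nat.eq_prime_pow_of_unique_prime_dvd (Nat.card_pos (α := G)).ne' h2
    haveI : Fact (Nat.Prime 2) := ⟨Nat.prime_two⟩
    exact (IsPGroup.of_card hcard).isNilpotent
  obtain ⟨q, hqp, hq2, hqdvd⟩ := hq
  haveI : Fact q.Prime := ⟨hqp⟩
  obtain ⟨Q⟩ : Nonempty (Sylow q G) := inferInstance
  obtain ⟨g, hQ⟩ := exists_tw_sylow φ hbij Q
  have hbij' : Function.Bijective (tw φ g) := tw_bijective φ hbij g
  have hback : ∀ M : Subgroup G, M.Normal → (∀ x ∈ M, tw φ g x ∈ M) → ∀ x ∈ M, φ x ∈ M := by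
    intro M hM h x hx
    have h1 := h x hx
    rw [tw_apply] at h1
    have h2 := hM.conj_mem _ h1 g⁻¹
    have e : g⁻¹ * (g * φ x * g⁻¹) * g⁻¹⁻¹ = φ x := by group
    rw [e] at h2
    exact h2
  have hQne : (Q : Subgroup G) ≠ ⊥ := Sylow.ne_bot_of_dvd_card Q hqdvd
  obtain ⟨J, hJdef⟩ : ∃ J : Subgroup G, J = Cfsg.thompsonSubgroupOf q (Q : Subgroup G) := ⟨_, rfl⟩
  have hJ : J.map (tw φ g) = J := by
    have := Cfsg.Agent.Lib.Helper1.thompsonSubgroupOf_map_inj q (tw φ g) hbij'.1 (Q : Subgroup G)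
    rw [hQ] at this
    rw [hJdef]
    exact this.symm
  have hJne : J ≠ ⊥ := by
    rw [hJdef]
    exact Cfsg.Agent.Lib.Helper1.indW_ne_bot (fun Q _ => Cfsg.thompsonSubgroup q Q)
      (Cfsg.Agent.Lib.Helper1.thompson_isCharPFunctor q) (Q : Subgroup G) Q.isPGroup' hQne
  obtain ⟨Z, hZdef⟩ : ∃ Z : Subgroup G,
      Z = (Q : Subgroup G) ⊓ Subgroup.centralizer ((Q : Subgroup G) : Set G) := ⟨_, rfl⟩
  have hZ : Z.map (tw φ g) = Z := by rw [hZdef]; exact center_like_map (tw φ g) hbij'.1 _ hQ
  have hZne : Z ≠ ⊥ := by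
    rw [hZdef]; exact Cfsg.Agent.Lib.Helper1.center_ne_bot_of_pgroup _ Q.isPGroup' hQne
  by_cases hNJ : Subgroup.normalizer (J : Set G) = ⊤
  · haveI hJn : J.Normal := Subgroup.normalizer_eq_top_iff.mp hNJ
    refine ⟨J, hJn, hback J hJn (inv_of_map_eq (tw φ g) J hJ), hJne, ?_⟩
    have hJQ : J ≤ (Q : Subgroup G) := by
      rw [hJdef]; exact Cfsg.Agent.Lib.Helper1.thompsonSubgroupOf_le q _
    exact (Q.isPGroup'.to_le hJQ).isNilpotent
  by_cases hCZ : Subgroup.centralizer (Z : Set G) = ⊤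
  · have hZc : (Z : Set G) ⊆ Subgroup.center G := Subgroup.centralizer_eq_top_iff_subset.mp hCZ
    haveI hZn : Z.Normal := ⟨fun z hz g => by
      have h1 := Subgroup.mem_center_iff.mp (hZc hz) g
      rw [h1, mul_inv_cancel_right]; exact hz⟩
    refine ⟨Z, hZn, hback Z hZn (inv_of_map_eq (tw φ g) Z hZ), hZne, ?_⟩
    have hZQ : Z ≤ (Q : Subgroup G) := by rw [hZdef]; exact inf_le_left
    exact (Q.isPGroup'.to_le hZQ).isNilpotent
  · have h1 : Group.IsNilpotent (Subgroup.normalizer (J : Set G)) :=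
      hsub _ g hNJ (normalizer_inv (tw φ g) hbij' J hJ)
    have h2 : Group.IsNilpotent (Subgroup.centralizer (Z : Set G)) :=
      hsub _ g hCZ (centralizer_inv (tw φ g) Z hZ)
    have h1' := Cfsg.Agent.Lib.Helper6.npc_of_nilpotent h1 q
    have h2' := Cfsg.Agent.Lib.Helper6.npc_of_nilpotent h2 q
    rw [hJdef] at h1'
    rw [hZdef] at h2'
    have h3 := (Cfsg.Agent.S0108.result (G := G) (p := q) hq2 Q).mpr ⟨h1', h2'⟩
    obtain ⟨P, K, hKn, hKc⟩ := h3
    haveI := hKn
    have hKmem : ∀ x, x ∈ K ↔ Nat.Coprime (orderOf x) q := Cfsg.Agent.S0086.result P K hKc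
    have hKφ : ∀ x ∈ K, φ x ∈ K := by
      intro x hx
      rw [hKmem] at hx ⊢
      rwa [orderOf_injective φ hbij.1 x]
    have hKtop : K ≠ ⊤ := by
      intro h
      have hcard := hKc.card_mul_card
      rw [h, Subgroup.card_top] at hcard
      have hP1 : Nat.card (P : Subgroup G) = 1 :=
        Nat.eq_of_mul_eq_mul_left (Nat.card_pos (α := G)) (by rw [hcard, mul_one])
      exact Sylow.ne_bot_of_dvd_card P hqdvd (Subgroup.card_eq_one.mp hP1)
    have hKnil : Group.IsNilpotent K := hsub K 1 hKtop (fun x hx => by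
      rw [tw_apply, one_mul, inv_one, mul_one]; exact hKφ x hx)
    have hKbot : K ≠ ⊥ := by
      intro h
      apply hnil
      have hcard := hKc.card_mul_card
      rw [h, Subgroup.card_bot, one_mul] at hcard
      obtain ⟨k, hk⟩ := IsPGroup.iff_card.mp P.isPGroup'
      rw [hk] at hcard
      exact (IsPGroup.of_card hcard.symm).isNilpotent
    exact ⟨K, hKn, hKφ, hKbot, hKnil⟩

/-- existence of the auxiliary central subgroup `A` of a twisted-invariant Sylow subgroup -/
theorem exists_norm_subgroup {G : Type u} [Group G] [Finite G] (φ : G →* G) {p : ℕ}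
    (hp : p.Prime) (hφ : Split φ p) (hbij : Function.Bijective φ) {r : ℕ} [Fact r.Prime]
    (R : Sylow r G) (hR : (R : Subgroup G).map φ = R) (hRbot : (R : Subgroup G) ≠ ⊥) :
    ∃ A : Subgroup G, A ≠ ⊥ ∧
      A ≤ (R : Subgroup G) ⊓ Subgroup.centralizer ((R : Subgroup G) : Set G) ∧
      (∀ x ∈ A, φ x ∈ A) ∧ (∀ k, ∀ c ∈ A, Nk φ c k ∈ A) ∧
      (∀ k, 0 < k → k < p → ∀ c ∈ A, ∀ d ∈ A, Nk φ c k = Nk φ d k → c = d) := by
  classical
  haveI : Fact p.Prime := ⟨hp⟩
  obtain ⟨Z, hZdef⟩ : ∃ Z : Subgroup G,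
      Z = (R : Subgroup G) ⊓ Subgroup.centralizer ((R : Subgroup G) : Set G) := ⟨_, rfl⟩
  have hZne : Z ≠ ⊥ := by
    rw [hZdef]; exact Cfsg.Agent.Lib.Helper1.center_ne_bot_of_pgroup _ R.isPGroup' hRbot
  have hZmap : Z.map φ = Z := by rw [hZdef]; exact center_like_map φ hbij.1 _ hR
  have hZφ : ∀ x ∈ Z, φ x ∈ Z := inv_of_map_eq φ Z hZmap
  have hZR : Z ≤ (R : Subgroup G) := by rw [hZdef]; exact inf_le_left
  have hZcomm : ∀ c ∈ Z, ∀ d ∈ Z, c * d = d * c := by
    intro c hc d hd
    rw [hZdef] at hd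
    exact (Subgroup.mem_centralizer_iff.mp hd.2) c (hZR hc)
  have hZp : IsPGroup r Z := R.isPGroup'.to_le hZR
  by_cases hrp : r = p
  · subst hrp
    -- fixed points of `φ` on `Z`
    let A : Subgroup G :=
      { carrier := {x | x ∈ Z ∧ φ x = x}
        mul_mem' := by
          rintro a b ⟨ha, ha1⟩ ⟨hb, hb1⟩
          exact ⟨Z.mul_mem ha hb, by rw [map_mul, ha1, hb1]⟩
        one_mem' := ⟨Z.one_mem, map_one φ⟩
        inv_mem' := by
          rintro a ⟨ha, ha1⟩
          exact ⟨Z.inv_mem ha, by rw [map_inv, ha1]⟩ }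
    have hAmem : ∀ x, x ∈ A ↔ x ∈ Z ∧ φ x = x := fun x => Iff.rfl
    have hAZ : A ≤ Z := fun x hx => ((hAmem x).mp hx).1
    have hAne : A ≠ ⊥ := by
      haveI : Fintype Z := Fintype.ofFinite Z
      let f : Function.End Z := fun x => res φ Z hZφ x
      have hfpow : ∀ k : ℕ, ∀ x : Z, (f ^ k) x = (res φ Z hZφ)^[k] x := by
        intro k
        induction k with
        | zero => intro x; rfl
        | succ k ihk =>
          intro x
          rw [pow_succ' f, Function.iterate_succ_apply', ← ihk]; rfl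
      have hft : f ^ r ^ 1 = 1 := by
        rw [pow_one]
        funext x
        rw [hfpow]
        exact (hφ.res Z hZφ).1 x
      have hmod := Equiv.Perm.card_fixedPoints_modEq (p := r) (n := 1) hft
      obtain ⟨i, hi⟩ := IsPGroup.iff_card.mp hZp
      have hi0 : i ≠ 0 := by
        rintro rfl
        rw [pow_zero] at hi
        exact hZne (Subgroup.card_eq_one.mp hi)
      have hdvd : r ∣ Fintype.card (Function.fixedPoints f) := by
        have h1 : r ∣ Fintype.card Z := by
          rw [← Nat.card_eq_fintype_card, hi]; exact dvd_pow_self r hi0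
        exact (Nat.modEq_zero_iff_dvd.mp ((hmod.symm.trans (Nat.modEq_zero_iff_dvd.mpr h1))))
      have hone : (1 : Z) ∈ Function.fixedPoints f := by
        show res φ Z hZφ 1 = 1
        exact map_one _
      have hlt : 1 < Fintype.card (Function.fixedPoints f) := by
        have hpos : 0 < Fintype.card (Function.fixedPoints f) :=
          Fintype.card_pos_iff.mpr ⟨⟨1, hone⟩⟩
        have := Nat.le_of_dvd hpos hdvd
        have := hp.one_lt
        omega
      obtain ⟨b, hb⟩ := Fintype.exists_ne_of_one_lt_card hlt ⟨1, hone⟩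
      intro hbot
      have hbA : ((b : Z) : G) ∈ A := by
        rw [hAmem]
        refine ⟨(b : Z).2, ?_⟩
        have h1 : res φ Z hZφ (b : Z) = (b : Z) := b.2
        exact congrArg Subtype.val h1
      rw [hbot, Subgroup.mem_bot] at hbA
      apply hb
      apply Subtype.ext
      apply Subtype.ext
      exact hbA
    have hAp : IsPGroup r A := hZp.to_le hAZ
    have hdata := fixed_norm_data φ A hAp (fun c hc => ((hAmem c).mp hc).2)
    refine ⟨A, hAne, ?_, ?_, hdata.1, hdata.2⟩
    · rw [← hZdef]; exact hAZ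
    · intro x hx
      rw [((hAmem x).mp hx).2]; exact hx
  · have hfpf : ∀ c ∈ Z, φ c = c → c = 1 := by
      intro c hc hfix
      have h1 : c ^ p = 1 := hφ.pow_eq_one c hfix
      obtain ⟨i, hi⟩ := hZp ⟨c, hc⟩
      have h2 : c ^ r ^ i = 1 := by
        have := congrArg Subtype.val hi
        rw [Subgroup.coe_pow] at this
        exact this
      have h3 : orderOf c ∣ p := orderOf_dvd_of_pow_eq_one h1
      have h4 : orderOf c ∣ r ^ i := orderOf_dvd_of_pow_eq_one h2
      have hcop : Nat.Coprime p (r ^ i) :=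
        Nat.Coprime.pow_right i ((Nat.coprime_primes hp (Fact.out : r.Prime)).mpr (Ne.symm hrp))
      exact orderOf_eq_one_iff.mp (Nat.eq_one_of_dvd_coprimes hcop h3 h4)
    have hdata := fpf_norm_data φ hp hφ Z hZφ hZcomm hfpf
    refine ⟨Z, hZne, ?_, hZφ, hdata.1, hdata.2⟩
    rw [← hZdef]

/-- the solvable step of Kegel's theorem -/
theorem nilpotent_of_abelian_normal {G : Type u} [Group G] [Finite G] (φ : G →* G)
    {p : ℕ} (hp : p.Prime) (hφ : Split φ p)
    (hsub : ∀ (H : Subgroup G) (g : G), H ≠ ⊤ → (∀ x ∈ H, tw φ g x ∈ H) →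
      Group.IsNilpotent H)
    (hquo : ∀ (K : Subgroup G) [K.Normal], K ≠ ⊥ → (∀ x ∈ K, φ x ∈ K) →
      Group.IsNilpotent (G ⧸ K))
    (s : ℕ) (hs : s.Prime) (N : Subgroup G) [hNn : N.Normal] (hNφ : ∀ x ∈ N, φ x ∈ N)
    (hNne : N ≠ ⊥)
    (hNcomm : ∀ a ∈ N, ∀ b ∈ N, a * b = b * a) (hNs : ∀ x ∈ N, x ^ s = 1) :
    Group.IsNilpotent G := by
  classical
  have hbij := bijective_of_iter φ hp hφ.1
  haveI : Fact s.Prime := ⟨hs⟩
  haveI hNc : IsMulCommutative N := ⟨⟨fun a b => Subtype.ext (hNcomm a a.2 b b.2)⟩⟩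
  have hNp : IsPGroup s N := fun x => ⟨1, by
    rw [pow_one]; apply Subtype.ext; rw [Subgroup.coe_pow]; exact hNs x x.2⟩
  have hQnil : Group.IsNilpotent (G ⧸ N) := hquo N hNne hNφ
  have htf := (Group.isNilpotent_of_finite_tfae (G := G)).out 0 3
  have htfQ := ((Group.isNilpotent_of_finite_tfae (G := G ⧸ N)).out 0 3).mp hQnil
  by_contra hnil
  apply hnil
  rw [htf]
  intro r hr P
  haveI := hr
  by_cases hrs : r = s
  · subst hrs
    have hNP : N ≤ (P : Subgroup G) := by
      obtain ⟨P', hP'⟩ := hNp.exists_le_sylow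
      obtain ⟨g, rfl⟩ := MulAction.exists_smul_eq G P' P
      intro x hx
      rw [Cfsg.Agent.Lib.Helper2.mem_smul_sylow]
      have h1 := hNn.conj_mem x hx g⁻¹
      rw [inv_inv] at h1
      exact hP' h1
    have h1 : ((P.mapSurjective (QuotientGroup.mk'_surjective N) : Sylow r (G ⧸ N)) :
        Subgroup (G ⧸ N)).Normal := htfQ r hr _
    rw [Sylow.coe_mapSurjective] at h1
    have h2 : ((P : Subgroup G).map (QuotientGroup.mk' N)).comap (QuotientGroup.mk' N) = P := by
      apply Subgroup.comap_map_eq_self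
      rw [QuotientGroup.ker_mk']; exact hNP
    rw [← h2]
    exact h1.comap _
  · obtain ⟨g, hR⟩ := exists_tw_sylow φ hbij P
    have hφ' : Split (tw φ g) p := hφ.tw g
    have hbij' := tw_bijective φ hbij g
    have hRφ : ∀ x ∈ (P : Subgroup G), tw φ g x ∈ (P : Subgroup G) := inv_of_map_eq (tw φ g) _ hR
    have hNφ' : ∀ x ∈ N, tw φ g x ∈ N := fun x hx => by
      rw [tw_apply]; exact hNn.conj_mem _ (hNφ x hx) g
    obtain ⟨H, hHdef⟩ : ∃ H : Subgroup G, H = N ⊔ (P : Subgroup G) := ⟨_, rfl⟩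
    have hHn : H.Normal := by
      have h1 : ((P.mapSurjective (QuotientGroup.mk'_surjective N) : Sylow r (G ⧸ N)) :
          Subgroup (G ⧸ N)).Normal := htfQ r hr _
      rw [Sylow.coe_mapSurjective] at h1
      have h2 : ((P : Subgroup G).map (QuotientGroup.mk' N)).comap (QuotientGroup.mk' N) = H := by
        rw [Subgroup.comap_map_eq, QuotientGroup.ker_mk', hHdef, sup_comm]
      rw [← h2]; exact h1.comap _
    have hHφ : ∀ x ∈ H, tw φ g x ∈ H := by
      intro x hx
      have h1 : tw φ g x ∈ H.map (tw φ g) := Subgroup.mem_map_of_mem _ hx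
      rw [hHdef, Subgroup.map_sup] at h1
      rw [hHdef]
      have hle : N.map (tw φ g) ⊔ (P : Subgroup G).map (tw φ g) ≤ N ⊔ (P : Subgroup G) := by
        apply sup_le_sup
        · rintro _ ⟨y, hy, rfl⟩; exact hNφ' y hy
        · rintro _ ⟨y, hy, rfl⟩; exact hRφ y hy
      exact hle h1
    by_cases hHtop : H = ⊤
    · by_cases hRbot : (P : Subgroup G) = ⊥
      · rw [hRbot]; infer_instance
      obtain ⟨A, hAne, hAZ, hAφ, hAmem, hAinj⟩ :=
        exists_norm_subgroup (tw φ g) hp hφ' hbij' P hR hRbot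
      have hAR : A ≤ (P : Subgroup G) := hAZ.trans inf_le_left
      have hAcent : ∀ a ∈ A, ∀ y ∈ (P : Subgroup G), y * a = a * y := by
        intro a ha y hy
        exact (Subgroup.mem_centralizer_iff.mp (hAZ ha).2) y hy
      have hcop : (Nat.card A).Coprime (Nat.card N) := by
        obtain ⟨i, hi⟩ := IsPGroup.iff_card.mp (P.isPGroup'.to_le hAR)
        obtain ⟨j, hj⟩ := IsPGroup.iff_card.mp hNp
        rw [hi, hj]
        exact Nat.Coprime.pow _ _ ((Nat.coprime_primes hr.out hs).mpr hrs)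
      have hcent := centralizes_of_twisted (tw φ g) hp hφ' N A hNφ' hAmem hAinj hcop
      have hdec : ∀ x : G, ∃ n ∈ N, ∃ y ∈ (P : Subgroup G), x = n * y := by
        intro x
        have hx : x ∈ N ⊔ (P : Subgroup G) := by rw [← hHdef, hHtop]; exact Subgroup.mem_top x
        rw [Subgroup.mem_sup_of_normal_left] at hx
        obtain ⟨n, hn, y, hy, rfl⟩ := hx
        exact ⟨n, hn, y, hy, rfl⟩
      exfalso
      apply hnil
      have hAcen : A ≤ Subgroup.center G := by
        intro a ha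
        rw [Subgroup.mem_center_iff]
        intro x
        obtain ⟨n, hn, y, hy, rfl⟩ := hdec x
        have han : a * n = n * a := hcent n hn a ha
        have hay : y * a = a * y := hAcent a ha y hy
        calc n * y * a = n * (y * a) := by group
          _ = n * (a * y) := by rw [hay]
          _ = (n * a) * y := by group
          _ = (a * n) * y := by rw [han]
          _ = a * (n * y) := by group
      haveI hAn : A.Normal := ⟨fun z hz x => by
        have h1 := Subgroup.mem_center_iff.mp (hAcen hz) x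
        rw [h1, mul_inv_cancel_right]; exact hz⟩
      have hAφ0 : ∀ x ∈ A, φ x ∈ A := by
        intro x hx
        have h1 := hAφ x hx
        have h2 := Subgroup.mem_center_iff.mp (hAcen h1) g⁻¹
        rw [tw_apply] at h1 h2
        have e : φ x = g⁻¹ * (g * φ x * g⁻¹) * g := by group
        rw [e, h2, mul_assoc, inv_mul_cancel, mul_one]
        exact h1
      haveI hq := hquo A hAne hAφ0
      exact Subgroup.isNilpotent_of_ker_le_center (QuotientGroup.mk' A)
        (by rw [QuotientGroup.ker_mk']; exact hAcen)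
    · have hHnil : Group.IsNilpotent H := hsub H g hHtop hHφ
      have hRH : (P : Subgroup G) ≤ H := by rw [hHdef]; exact le_sup_right
      have htfH := ((Group.isNilpotent_of_finite_tfae (G := H)).out 0 3).mp hHnil
      have h1 : ((P.subtype hRH : Sylow r H) : Subgroup H).Normal := htfH r hr _
      haveI h2 : ((P.subtype hRH : Sylow r H) : Subgroup H).Characteristic :=
        Sylow.characteristic_of_normal _ h1
      haveI := hHn
      have h3 : (((P.subtype hRH : Sylow r H) : Subgroup H).map H.subtype).Normal :=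
        ConjAct.normal_of_characteristic_of_normal
      rw [Sylow.coe_subtype, Subgroup.subgroupOf_map_subtype, inf_of_le_left hRH] at h3
      exact h3

/-- **Kegel**: a finite group with a splitting endomorphism of prime exponent `p` is
nilpotent. -/
theorem nilpotent_of_split (p : ℕ) (hp : p.Prime) : ∀ (n : ℕ) (G : Type u) [Group G] [Finite G],
    Nat.card G ≤ n → ∀ φ : G →* G, Split φ p → Group.IsNilpotent G := by
  intro n
  induction n with
  | zero =>
    intro G _ _ hn
    have := Nat.card_pos (α := G)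
    exact absurd hn (by omega)
  | succ n ih =>
    intro G _ _ hn φ hφ
    by_contra hnil
    have hbij := bijective_of_iter φ hp hφ.1
    have hsub : ∀ (H : Subgroup G) (g : G), H ≠ ⊤ → (∀ x ∈ H, tw φ g x ∈ H) →
        Group.IsNilpotent H := by
      intro H g hH hHφ
      have hlt : Nat.card H < Nat.card G := by
        have h1 := Subgroup.card_le_card_group H
        have h2 : Nat.card H ≠ Nat.card G := fun h => hH ((Subgroup.card_eq_iff_eq_top H).mp h)
        omega
      exact ih H (by omega) (res (tw φ g) H hHφ) ((hφ.tw g).res H hHφ)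
    have hquo : ∀ (K : Subgroup G) [K.Normal], K ≠ ⊥ → (∀ x ∈ K, φ x ∈ K) →
        Group.IsNilpotent (G ⧸ K) := by
      intro K _ hK hKφ
      have hlt : Nat.card (G ⧸ K) < Nat.card G := by
        have h1 := Subgroup.card_mul_index K
        rw [Subgroup.index_eq_card] at h1
        have h2 : 1 < Nat.card K := (Subgroup.one_lt_card_iff_ne_bot K).mpr hK
        have h3 := Nat.card_pos (α := G ⧸ K)
        nlinarith
      exact ih (G ⧸ K) (by omega) (quo φ K hKφ) (hφ.quo K hKφ)
    obtain ⟨M, hMn, hMφ, hMne, hMnil⟩ := exists_normal_nilpotent' φ hbij hsub hnil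
    haveI := hMn
    obtain ⟨s, N, hs, hNn, hNφ, hNne, hNcomm, hNs, -⟩ :=
      exists_min_abelian φ hbij M hMφ hMne hMnil
    haveI := hNn
    exact hnil (nilpotent_of_abelian_normal φ hp hφ hsub hquo s hs N hNφ hNne hNcomm hNs)

end Cfsg.Agent.Lib.Helper2.Fpf
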