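import Mathlib
import Cfsg.Agent.Lib.Helper2.Kegel2

/-!
# A subgroup all of whose elements in a normalizing coset have order dividing `p` is nilpotent
(helper2; corollary of Kegel's theorem)
-/

set_option autoImplicit false
open scoped Pointwise IsMulCommutative

namespace Cfsg.Agent.Lib.Helper2.Fpf

universe u

/-- if `w` normalizes `K` and every element of the coset `K w` has order dividing the prime `p`,
then `K` is nilpotent -/
theorem nilpotent_of_coset_exponent {G : Type u} [Group G] [Finite G] {p : ℕ} (hp : p.Prime)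
    (K : Subgroup G) (w : G) (hwN : ∀ g ∈ K, w * g * w⁻¹ ∈ K)
    (hw : ∀ g ∈ K, (g * w) ^ p = 1) : Group.IsNilpotent K := by
  have hwp : w ^ p = 1 := by simpa using hw 1 K.one_mem
  let β : K →* K := MonoidHom.mk' (fun g => ⟨w * g * w⁻¹, hwN g g.2⟩) (by
    intro a b
    apply Subtype.ext
    show w * ((a * b : K) : G) * w⁻¹ = (w * a * w⁻¹) * (w * b * w⁻¹)
    rw [Subgroup.coe_mul]; group)
  have hβ : ∀ g : K, ((β g : K) : G) = w * g * w⁻¹ := fun g => rfl
  have hiter : ∀ (k : ℕ) (g : K), ((β^[k] g : K) : G) = w ^ k * g * (w ^ k)⁻¹ := by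
    intro k
    induction k with
    | zero => intro g; simp
    | succ k ih => intro g; rw [Function.iterate_succ_apply', hβ, ih, pow_succ']; group
  have hNk : ∀ (k : ℕ) (g : K), ((g : G) * w) ^ k = ((Nk β g k : K) : G) * w ^ k := by
    intro k
    induction k with
    | zero => intro g; simp [Nk]
    | succ k ih =>
      intro g
      rw [pow_succ', ih, Nk_succ, Subgroup.coe_mul, hβ, pow_succ']; group
  have hsplit : Split β p := by
    refine ⟨fun g => Subtype.ext ?_, fun g => Subtype.ext ?_⟩
    · rw [hiter, hwp]; simp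
    · have h1 := hNk p g
      rw [hw g g.2, hwp, mul_one] at h1
      exact h1.symm
  exact nilpotent_of_split p hp _ K le_rfl β hsplit

end Cfsg.Agent.Lib.Helper2.Fpf
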