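import Mathlib
import Cfsg.Prelude
import Cfsg.Agent.Lib.Helper6.FrobNC
import Cfsg.Agent.Lib.Helper6.OmegaCent

/-! Normal `p`-complements from the elements of order `p` (or `4`). -/

namespace Cfsg.Agent.Lib.Helper2.Npc

variable {G : Type*} [Group G]

/-- if `g x g⁻¹ = x c` with `c` a `p`-element commuting with the `p'`-element `g`, then `c = 1` -/
theorem eq_one_of_conj_eq_mul [Finite G] {p : ℕ} (g x c : G) (h : g * x * g⁻¹ = x * c)
    (hc : g * c = c * g) (hcp : ∃ k : ℕ, c ^ (p ^ k) = 1) (hcop : (orderOf g).Coprime p) : c = 1 := by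
  have hpow : ∀ m : ℕ, g ^ m * x * (g ^ m)⁻¹ = x * c ^ m := by
    intro m
    induction m with
    | zero => simp
    | succ m ih =>
      have e1 : g ^ (m + 1) * x * (g ^ (m + 1))⁻¹ = g * (g ^ m * x * (g ^ m)⁻¹) * g⁻¹ := by
        rw [pow_succ']; group
      have hcm : g * c ^ m = c ^ m * g := by
        have : Commute g (c ^ m) := (show Commute g c from hc).pow_right m
        exact this
      rw [e1, ih]
      have e2 : g * (x * c ^ m) * g⁻¹ = g * x * g⁻¹ * (g * c ^ m) * g⁻¹ := by group
      rw [e2, h, hcm, pow_succ']; group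
  have h1 := hpow (orderOf g)
  rw [pow_orderOf_eq_one] at h1
  have h2 : c ^ orderOf g = 1 := by
    have : x * c ^ orderOf g = x * 1 := by rw [← h1]; group
    exact mul_left_cancel this
  obtain ⟨k, hk⟩ := hcp
  have h3 := pow_gcd_eq_one.mpr ⟨h2, hk⟩
  rwa [Nat.Coprime.gcd_eq_one (Nat.Coprime.pow_right k hcop), pow_one] at h3

/-- a `p'`-element normalizing a `p`-group and centralizing its elements of order `p` (or `4`)
centralizes it -/
theorem centralizes_of_small [Finite G] {p : ℕ} [Fact p.Prime] (Q : Subgroup G) (hQ : IsPGroup p Q)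
    (g : G) (hg : g ∈ Subgroup.normalizer (Q : Set G)) (hcop : (orderOf g).Coprime p)
    (h : ∀ x ∈ Q, (x ^ p = 1 ∨ (p = 2 ∧ x ^ 4 = 1)) → g * x * g⁻¹ = x) :
    g ∈ Subgroup.centralizer (Q : Set G) := by
  have hA : (Nat.card (Subgroup.zpowers g)).Coprime p := by
    rw [Nat.card_zpowers]; exact hcop
  have hAP : Subgroup.zpowers g ≤ Subgroup.normalizer (Q : Set G) := Subgroup.zpowers_le.mpr hg
  have key := Cfsg.Agent.Lib.Helper6.centralizes_of_centralizes_omega (Subgroup.zpowers g) Q hA hQ hAP ?_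
  · exact key (Subgroup.mem_zpowers g)
  · intro x hx hx2 a ha
    have hgx : g ∈ Subgroup.centralizer ({x} : Set G) := by
      rw [Subgroup.mem_centralizer_iff]
      intro y hy
      rw [Set.mem_singleton_iff] at hy
      subst hy
      have := h y hx hx2
      have e : g * y = g * y * g⁻¹ * g := by group
      rw [e, this]
    have hax : a ∈ Subgroup.centralizer ({x} : Set G) := (Subgroup.zpowers_le.mpr hgx) ha
    have := Subgroup.mem_centralizer_iff.mp hax x rfl
    rw [← this, mul_inv_cancel_right]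

/-- Frobenius' condition from the small elements -/
theorem frobCond_of_small [Finite G] {p : ℕ} [Fact p.Prime] (P : Sylow p G)
    (h : ∀ Q : Subgroup G, Q ≤ (P : Subgroup G) → ∀ g ∈ Subgroup.normalizer (Q : Set G),
      (orderOf g).Coprime p → ∀ x ∈ Q, (x ^ p = 1 ∨ (p = 2 ∧ x ^ 4 = 1)) → g * x * g⁻¹ = x) :
    Cfsg.Agent.Lib.Helper6.FrobCond p G := by
  apply Cfsg.Agent.Lib.Helper6.frobCond_of_sylow P
  intro Q hQP g hg hcop
  exact centralizes_of_small Q (P.isPGroup'.to_le hQP) g hg hcop (h Q hQP g hg hcop)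

end Cfsg.Agent.Lib.Helper2.Npc
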