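import Mathlib
import Cfsg.Prelude.Def_Perm

set_option autoImplicit false

namespace Cfsg.Agent.Lib.Helper2.PermMod

universe u

theorem pow_sub_one_apply {K V : Type*} [Field K] {p : ℕ} [Fact p.Prime] [CharP K p]
    [AddCommGroup V] [Module K V] (T : V →ₗ[K] V) : (T - 1) ^ p = T ^ p - 1 := by
  have h := congrArg (Polynomial.aeval T) (sub_pow_char (Polynomial.X : Polynomial K) 1 (p := p))
  simpa using h

/-- a finite `p`-group acting linearly in characteristic `p` fixes a nonzero vector of every nonzero
invariant subspace -/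
theorem pgroup_fixed (p : ℕ) [Fact p.Prime] {K : Type*} [Field K] [CharP K p] {V : Type*}
    [AddCommGroup V] [Module K V] :
    ∀ n : ℕ, ∀ (P : Type u) [Group P] [Finite P], Nat.card P ≤ n → IsPGroup p P →
    ∀ (ρ : Representation K P V) (W : Submodule K V), (∀ g, ∀ w ∈ W, ρ g w ∈ W) → W ≠ ⊥ →
    ∃ w ∈ W, w ≠ 0 ∧ ∀ g, ρ g w = w := by
  classical
  intro n
  induction n with
  | zero =>
    intro P _ _ hc
    exact absurd hc (by have := Nat.card_pos (α := P); omega)
  | succ n ih =>
    intro P _ _ hc hP ρ W hW hne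
    by_cases htriv : Nat.card P = 1
    · obtain ⟨w, hw, hw0⟩ := Submodule.exists_mem_ne_zero_of_ne_bot hne
      refine ⟨w, hw, hw0, fun g => ?_⟩
      have hg : g = 1 := by
        haveI := (Nat.card_eq_one_iff_unique.mp htriv).1
        exact Subsingleton.elim _ _
      rw [hg, map_one]; rfl
    · obtain ⟨a, ha⟩ := IsPGroup.iff_card.mp hP
      have hp := (Fact.out : p.Prime)
      have ha0 : a ≠ 0 := by rintro rfl; rw [pow_zero] at ha; exact htriv ha
      obtain ⟨M, hM⟩ := Sylow.exists_subgroup_card_pow_prime_of_le_card (n := a - 1) hp hP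
        (by rw [ha]; exact Nat.pow_le_pow_right hp.pos (Nat.sub_le a 1))
      have hidx : M.index = p := by
        have h1 := Subgroup.card_mul_index M
        rw [hM, ha] at h1
        have h2 : p ^ a = p ^ (a - 1) * p := by rw [← pow_succ]; congr 1; omega
        rw [h2] at h1
        exact Nat.eq_of_mul_eq_mul_left (pow_pos hp.pos _) h1
      have hMn : M.Normal := Subgroup.normal_of_index_eq_minFac_card
        (by rw [hidx, ha, Nat.pow_minFac ha0, hp.minFac_eq])
      have hcM : Nat.card M ≤ n := by
        have : Nat.card M < Nat.card P := by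
          rw [hM, ha]; exact Nat.pow_lt_pow_right hp.one_lt (by omega)
        omega
      obtain ⟨w₀, hw₀W, hw₀0, hw₀fix⟩ := ih M hcM (hP.to_subgroup M) (ρ.comp M.subtype) W
        (fun g w hw => hW g w hw) hne
      obtain ⟨z, hz⟩ : ∃ z : P, z ∉ M := by
        by_contra hh
        push_neg at hh
        have hMtop : M = ⊤ := eq_top_iff.mpr (fun x _ => hh x)
        rw [hMtop, Subgroup.index_top] at hidx
        exact hp.one_lt.ne hidx
      have hzp : z ^ p ∈ M := by
        have := M.pow_index_mem z
        rwa [hidx] at this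
      have hfixM : ∀ w : V, (∀ m : M, ρ m w = w) → ∀ m : M, ρ m (ρ z w) = ρ z w := by
        intro w hw m
        have h1 : (m : P) * z = z * (z⁻¹ * m * z) := by group
        have h2 : z⁻¹ * (m : P) * z ∈ M := by
          have := hMn.conj_mem (m : P) m.2 z⁻¹
          simpa using this
        calc ρ m (ρ z w) = ρ ((m : P) * z) w := by rw [map_mul]; rfl
          _ = ρ (z * (z⁻¹ * m * z)) w := by rw [h1]
          _ = ρ z (ρ (z⁻¹ * (m:P) * z) w) := by rw [map_mul]; rfl
          _ = ρ z w := by rw [hw ⟨_, h2⟩]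
      have hiter : ∀ j : ℕ, ((ρ z - 1) ^ j) w₀ ∈ W ∧
          ∀ m : M, ρ m (((ρ z - 1) ^ j) w₀) = ((ρ z - 1) ^ j) w₀ := by
        intro j
        induction j with
        | zero => exact ⟨by simpa using hw₀W, fun m => by simpa using hw₀fix m⟩
        | succ j ihj =>
          rw [pow_succ']
          constructor
          · show (ρ z - 1) (((ρ z - 1) ^ j) w₀) ∈ W
            rw [LinearMap.sub_apply]
            exact W.sub_mem (hW z _ ihj.1) ihj.1
          · intro m
            show ρ m ((ρ z - 1) (((ρ z - 1) ^ j) w₀)) = (ρ z - 1) (((ρ z - 1) ^ j) w₀)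
            rw [LinearMap.sub_apply, map_sub, hfixM _ ihj.2 m]
            congr 1
            exact ihj.2 m
      have hp0 : ((ρ z - 1) ^ p) w₀ = 0 := by
        rw [pow_sub_one_apply, LinearMap.sub_apply, ← map_pow]
        have h1 : ρ (z ^ p) w₀ = w₀ := hw₀fix ⟨z ^ p, hzp⟩
        show ρ (z ^ p) w₀ - w₀ = 0
        rw [h1, sub_self]
      have hex : ∃ j : ℕ, ((ρ z - 1) ^ j) w₀ = 0 := ⟨p, hp0⟩
      have hj0 : Nat.find hex ≠ 0 := by
        intro h
        have h1 := Nat.find_spec hex
        rw [h, pow_zero] at h1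
        exact hw₀0 h1
      obtain ⟨j, hj⟩ := Nat.exists_eq_succ_of_ne_zero hj0
      have hne' : ((ρ z - 1) ^ j) w₀ ≠ 0 := Nat.find_min hex (by omega)
      have hzfix : ρ z (((ρ z - 1) ^ j) w₀) = ((ρ z - 1) ^ j) w₀ := by
        have h1 := Nat.find_spec hex
        rw [hj, pow_succ'] at h1
        have h2 : (ρ z - 1) (((ρ z - 1) ^ j) w₀) = 0 := h1
        rw [LinearMap.sub_apply] at h2
        exact sub_eq_zero.mp h2
      obtain ⟨w', hw'def⟩ : ∃ w', w' = ((ρ z - 1) ^ j) w₀ := ⟨_, rfl⟩
      rw [← hw'def] at hne' hzfix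
      have hw'W : w' ∈ W := hw'def ▸ (hiter j).1
      have hw'M : ∀ m : M, ρ m w' = w' := hw'def ▸ (hiter j).2
      refine ⟨w', hw'W, hne', ?_⟩
      let St : Subgroup P :=
        { carrier := {g | ρ g w' = w'}
          one_mem' := by
            show ρ 1 w' = w'
            rw [map_one]; rfl
          mul_mem' := by
            intro a b ha hb
            show ρ (a * b) w' = w'
            rw [map_mul]
            show ρ a (ρ b w') = w'
            rw [show ρ b w' = w' from hb]
            exact ha
          inv_mem' := by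
            intro a ha
            show ρ a⁻¹ w' = w'
            have h1 : ρ a⁻¹ (ρ a w') = w' := by
              have h2 : ρ a⁻¹ (ρ a w') = ρ (a⁻¹ * a) w' := by rw [map_mul]; rfl
              rw [h2, inv_mul_cancel, map_one]; rfl
            rw [show ρ a w' = w' from ha] at h1
            exact h1 }
      have hMSt : M ≤ St := fun m hm => hw'M ⟨m, hm⟩
      have hzSt : z ∈ St := hzfix
      have hSt : St = ⊤ := by
        have h1 := Subgroup.index_dvd_of_le hMSt
        rw [hidx] at h1
        rcases (Nat.dvd_prime hp).mp h1 with h2 | h2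
        · exact Subgroup.index_eq_one.mp h2
        · exfalso
          have h3 : Nat.card St = Nat.card M := by
            have e1 := Subgroup.card_mul_index St
            have e2 := Subgroup.card_mul_index M
            rw [h2] at e1
            rw [hidx] at e2
            exact Nat.eq_of_mul_eq_mul_right hp.pos (e1.trans e2.symm)
          have h4 : M = St := Subgroup.eq_of_le_of_card_ge hMSt h3.le
          exact hz (h4 ▸ hzSt)
      intro g
      have hg : g ∈ St := hSt ▸ Subgroup.mem_top g
      exact hg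

/-- a Sylow `p`-subgroup of a transitive group of degree `p ^ f` is transitive -/
theorem sylow_transitive {G : Type*} [Group G] [Finite G] {p f : ℕ} [Fact p.Prime] {Ω : Type*}
    [Fintype Ω] [MulAction G Ω] [MulAction.IsPretransitive G Ω] (hcard : Fintype.card Ω = p ^ f)
    (P : Sylow p G) : ∀ x y : Ω, ∃ g ∈ (P : Subgroup G), g • x = y := by
  have hp := (Fact.out : p.Prime)
  intro x y
  have h1 : Nat.card (MulAction.orbit G x) * Nat.card (MulAction.stabilizer G x) = Nat.card G := by
    rw [← Nat.card_prod]; exact Nat.card_congr (MulAction.orbitProdStabilizerEquivGroup G x)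
  have h2 : Nat.card (MulAction.orbit (P : Subgroup G) x)
      * Nat.card (MulAction.stabilizer (P : Subgroup G) x) = Nat.card (P : Subgroup G) := by
    rw [← Nat.card_prod]
    exact Nat.card_congr (MulAction.orbitProdStabilizerEquivGroup (P : Subgroup G) x)
  have hOG : Nat.card (MulAction.orbit G x) = p ^ f := by
    rw [MulAction.orbit_eq_univ, Nat.card_congr (Equiv.Set.univ Ω), Nat.card_eq_fintype_card, hcard]
  rw [hOG] at h1
  obtain ⟨b, hb⟩ := IsPGroup.iff_card.mp
    ((P.isPGroup').to_subgroup (MulAction.stabilizer (P : Subgroup G) x))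
  have hdvd : Nat.card (MulAction.stabilizer (P : Subgroup G) x) ∣ Nat.card (MulAction.stabilizer G x) := by
    let φ : MulAction.stabilizer (P : Subgroup G) x →* MulAction.stabilizer G x :=
      { toFun := fun g => ⟨(g.1 : G), g.2⟩
        map_one' := rfl
        map_mul' := fun _ _ => rfl }
    apply Subgroup.card_dvd_of_injective φ
    intro g g' h
    have h' : ((g.1 : G)) = (g'.1 : G) := congrArg (fun t : MulAction.stabilizer G x => (t : G)) h
    exact Subtype.ext (Subtype.ext h')
  rw [hb] at hdvd h2
  have hG0 : Nat.card G ≠ 0 := Nat.card_pos.ne'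
  have hfb : p ^ (f + b) ∣ Nat.card G := by
    rw [← h1, pow_add]; exact mul_dvd_mul_left _ hdvd
  have hle : f + b ≤ (Nat.card G).factorization p := (hp.pow_dvd_iff_le_factorization hG0).mp hfb
  rw [P.card_eq_multiplicity] at h2
  obtain ⟨a, ha⟩ : ∃ a, a = (Nat.card G).factorization p := ⟨_, rfl⟩
  rw [← ha] at h2 hle
  have horb : Nat.card (MulAction.orbit (P : Subgroup G) x) = p ^ (a - b) := by
    have h3 : p ^ a = p ^ (a - b) * p ^ b := by rw [← pow_add]; congr 1; omega
    rw [h3] at h2
    exact Nat.eq_of_mul_eq_mul_right (pow_pos hp.pos _) h2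
  have hbij : Function.Bijective (Subtype.val : MulAction.orbit (P : Subgroup G) x → Ω) := by
    apply Function.Injective.bijective_of_nat_card_le Subtype.val_injective
    rw [horb, Nat.card_eq_fintype_card, hcard]
    exact Nat.pow_le_pow_right hp.pos (by omega)
  obtain ⟨⟨y', hy'⟩, rfl⟩ := hbij.2 y
  obtain ⟨g, hg⟩ := hy'
  exact ⟨(g : G), g.2, hg⟩

/-- in characteristic `p`, every nonzero subrepresentation of the permutation module of a transitive
action of degree `p ^ f` contains the constant function `1` -/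
theorem one_mem_of_ne_bot {G : Type*} [Group G] [Finite G] {K : Type*} [Field K] {p f : ℕ}
    [Fact p.Prime] [CharP K p] {Ω : Type*} [Fintype Ω] [MulAction G Ω] [MulAction.IsPretransitive G Ω]
    (hcard : Fintype.card Ω = p ^ f) (W : Subrepresentation (Cfsg.permRep K G Ω))
    (hW : W.toSubmodule ≠ ⊥) : (fun _ => (1:K)) ∈ W.toSubmodule := by
  let P : Sylow p G := default
  obtain ⟨w, hwW, hw0, hwfix⟩ := pgroup_fixed p (Nat.card (P : Subgroup G)) ↥(P : Subgroup G) le_rfl
    P.isPGroup' ((Cfsg.permRep K G Ω).comp (P : Subgroup G).subtype) W.toSubmodule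
    (fun g w hw => W.apply_mem_toSubmodule (g : G) hw) hW
  obtain ⟨x₀, hx₀⟩ : ∃ x₀, w x₀ ≠ 0 := by
    by_contra hh
    push_neg at hh
    exact hw0 (funext hh)
  have hconst : ∀ y, w y = w x₀ := by
    intro y
    obtain ⟨g, hg, hgy⟩ := sylow_transitive hcard P y x₀
    have h1 := congrFun (hwfix ⟨g⁻¹, (P : Subgroup G).inv_mem hg⟩) y
    have h2 : w (g⁻¹⁻¹ • y) = w y := h1
    rw [inv_inv, hgy] at h2
    exact h2.symm
  have h3 : (fun _ => (1:K)) = (w x₀)⁻¹ • w := by
    funext y
    rw [Pi.smul_apply, hconst y, smul_eq_mul, inv_mul_cancel₀ hx₀]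
  rw [h3]
  exact W.toSubmodule.smul_mem _ hwW

end Cfsg.Agent.Lib.Helper2.PermMod
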